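import Cfsg.Agent.Lib.Structure.ClassGraph
import Cfsg.Agent.Lib.Transfer.NormalComplement

/-!
Primes dividing class sizes: two primes never dividing a common class size force a self-centralised
Sylow normaliser for one of them.
-/

set_option autoImplicit false
set_option linter.style.haveILetI false

namespace CfsgLib.ClassPrimes

open Subgroup CfsgLib.ClassGraph

variable {G : Type*} [Group G] [Finite G]

/-- `p` divides some class size. -/
def Vert (G : Type*) [Group G] (p : ℕ) : Prop := ∃ x : G, p ∣ idx x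

/-- `p q` divides some class size. -/
def Adj (G : Type*) [Group G] (p q : ℕ) : Prop := ∃ x : G, p * q ∣ idx x

theorem Adj.symm {p q : ℕ} (h : Adj G p q) : Adj G q p := by
  obtain ⟨x, hx⟩ := h
  exact ⟨x, by rwa [mul_comm]⟩

theorem adj_of_dvd {p q : ℕ} (hp : p.Prime) (hq : q.Prime) (hpq : p ≠ q) {x : G} (h1 : p ∣ idx x)
    (h2 : q ∣ idx x) : Adj G p q :=
  ⟨x, ((Nat.coprime_primes hp hq).mpr hpq).mul_dvd_of_dvd_of_dvd h1 h2⟩

/-- Some Sylow `p`-subgroup has its normaliser equal to its centraliser. -/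
def Good (G : Type*) [Group G] (p : ℕ) : Prop :=
  ∃ P : Sylow p G, normalizer ((P : Subgroup G) : Set G) ≤ centralizer ((P : Subgroup G) : Set G)

theorem Good.all {p : ℕ} [Fact p.Prime] (h : Good G p) (Q : Sylow p G) :
    normalizer ((Q : Subgroup G) : Set G) ≤ centralizer ((Q : Subgroup G) : Set G) := by
  obtain ⟨P, hP⟩ := h
  obtain ⟨g, rfl⟩ := MulAction.exists_smul_eq G P Q
  intro n hn
  have hmem : ∀ x, g * x * g⁻¹ ∈ ((g • P : Sylow p G) : Subgroup G) ↔ x ∈ (P : Subgroup G) := by
    intro x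
    rw [Sylow.coe_subgroup_smul, Subgroup.mem_pointwise_smul_iff_inv_smul_mem, ← map_inv,
      MulAut.smul_def, MulAut.conj_apply]
    simp [mul_assoc]
  have hn' : g⁻¹ * n * g ∈ normalizer ((P : Subgroup G) : Set G) := by
    rw [mem_normalizer_iff]
    intro x
    rw [← hmem x, ← hmem (g⁻¹ * n * g * x * (g⁻¹ * n * g)⁻¹)]
    refine (mem_normalizer_iff.mp hn (g * x * g⁻¹)).trans (iff_of_eq ?_)
    congr 1
    group
  rw [mem_centralizer_iff]
  intro y hy
  have hy' : g⁻¹ * y * g ∈ (P : Subgroup G) := by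
    rw [← hmem, show g * (g⁻¹ * y * g) * g⁻¹ = y by group]
    exact hy
  have := mem_centralizer_iff.mp (hP hn') _ hy'
  calc y * n = g * ((g⁻¹ * y * g) * (g⁻¹ * n * g)) * g⁻¹ := by group
    _ = g * ((g⁻¹ * n * g) * (g⁻¹ * y * g)) * g⁻¹ := by rw [this]
    _ = n * y := by group

theorem Good.not_dvd_commutator {p : ℕ} [Fact p.Prime] (h : Good G p) :
    ¬ p ∣ Nat.card (commutator G) := by
  obtain ⟨P, hP⟩ := h
  exact not_dvd_card_commutator P hP

/-- An element whose class size is prime to `p` centralises a conjugate of a given Sylow subgroup. -/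
theorem exists_conj_mem_cent {p : ℕ} [Fact p.Prime] (P : Sylow p G) {x : G} (hx : ¬ p ∣ idx x) :
    ∃ g : G, g * x * g⁻¹ ∈ centralizer ((P : Subgroup G) : Set G) := by
  obtain ⟨R, hR⟩ := CfsgLib.KnownSimple51.Pronormal.exists_sylow_le_of_not_dvd_index
    (H := centralizer ({x} : Set G)) hx
  obtain ⟨g, rfl⟩ := MulAction.exists_smul_eq G R P
  refine ⟨g, mem_centralizer_iff.mpr fun y hy => ?_⟩
  rw [SetLike.mem_coe, Sylow.coe_subgroup_smul, Subgroup.mem_pointwise_smul_iff_inv_smul_mem, ← map_inv,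
    MulAut.smul_def, MulAut.conj_apply, inv_inv] at hy
  have h1 := mem_cent.mp (hR hy)
  calc y * (g * x * g⁻¹) = g * (g⁻¹ * y * g * x) * g⁻¹ := by group
    _ = g * (x * (g⁻¹ * y * g)) * g⁻¹ := by rw [h1]
    _ = g * x * g⁻¹ * y := by group

/-- If the class size is prime to `p` for an element, a Sylow subgroup lies in its centraliser. -/
theorem not_dvd_idx_of_sylow_le {p : ℕ} [Fact p.Prime] (P : Sylow p G) {x : G}
    (h : (P : Subgroup G) ≤ centralizer ({x} : Set G)) : ¬ p ∣ idx x :=
  fun hd => P.not_dvd_index (hd.trans (index_dvd_of_le h))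

theorem le_cent_of_mem {H : Subgroup G} {x : G} (h : x ∈ centralizer (H : Set G)) :
    H ≤ centralizer ({x} : Set G) :=
  fun y hy => mem_cent.mpr (mem_centralizer_iff.mp h y hy)

/-- The elements centralised by a conjugate of `P`. -/
def covered (P : Subgroup G) : Set G := {x | ∃ g : G, g * x * g⁻¹ ∈ centralizer (P : Set G)}

/-- Counting the non-identity elements centralised by some conjugate of `P`. -/
theorem ncard_covered_le (P : Subgroup G) :
    (covered P \ {1}).ncard + (normalizer (P : Set G)).index ≤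
      (normalizer (P : Set G)).index * Nat.card (centralizer (P : Set G)) := by
  classical
  set C := centralizer (P : Set G) with hC
  set N := normalizer (P : Set G) with hN
  let f : (G ⧸ N) × ((C : Set G) \ {1} : Set G) → G := fun u => u.1.out * u.2 * u.1.out⁻¹
  have hsub : covered P \ {1} ⊆ Set.range f := by
    rintro x ⟨⟨g, hg⟩, hx1⟩
    obtain ⟨⟨n, hn⟩, hn'⟩ := QuotientGroup.mk_out_eq_mul N g⁻¹
    have hmem : n⁻¹ * (g * x * g⁻¹) * n ∈ C := by
      rw [hC, mem_centralizer_iff]
      intro y hy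
      have h1 : n * y * n⁻¹ ∈ P := (mem_normalizer_iff.1 hn y).1 hy
      have h2 := mem_centralizer_iff.1 (hC ▸ hg) _ h1
      calc y * (n⁻¹ * (g * x * g⁻¹) * n)
          = n⁻¹ * (n * y * n⁻¹ * (g * x * g⁻¹)) * n := by group
        _ = n⁻¹ * (g * x * g⁻¹ * (n * y * n⁻¹)) * n := by rw [h2]
        _ = n⁻¹ * (g * x * g⁻¹) * n * y := by group
    refine ⟨(((g⁻¹ : G) : G ⧸ N), ⟨n⁻¹ * (g * x * g⁻¹) * n, hmem, fun hz => hx1 ?_⟩), ?_⟩
    · rw [Set.mem_singleton_iff] at hz ⊢
      calc x = g⁻¹ * n * (n⁻¹ * (g * x * g⁻¹) * n) * n⁻¹ * g := by group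
        _ = 1 := by rw [hz]; group
    · show ((g⁻¹ : G) : G ⧸ N).out * _ * ((g⁻¹ : G) : G ⧸ N).out⁻¹ = x
      rw [hn']
      group
  have h1 : (covered P \ {1}).ncard ≤ N.index * (Nat.card C - 1) := by
    refine (Set.ncard_le_ncard hsub).trans ?_
    rw [← Nat.card_coe_set_eq]
    refine (Finite.card_range_le f).trans (le_of_eq ?_)
    rw [Nat.card_prod, ← index_eq_card, Nat.card_coe_set_eq,
      Set.ncard_sdiff (Set.singleton_subset_iff.mpr C.one_mem), Set.ncard_singleton]
    rfl
  have h2 : 1 ≤ Nat.card C := Nat.card_pos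
  calc (covered P \ {1}).ncard + N.index ≤ N.index * (Nat.card C - 1) + N.index * 1 := by omega
    _ = N.index * Nat.card C := by rw [← mul_add, Nat.sub_add_cancel h2]

/-- If `N(P) ≠ C(P)`, less than half of the group is centralised by a conjugate of `P`. -/
theorem two_mul_ncard_covered (P : Subgroup G)
    (hP : ¬ normalizer (P : Set G) ≤ centralizer (P : Set G)) :
    2 * (covered P \ {1}).ncard + 2 ≤ Nat.card G := by
  have h1 := ncard_covered_le P
  set C := centralizer (P : Set G) with hC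
  set N := normalizer (P : Set G) with hN
  have hCN : C ≤ N := centralizer_le_normalizer _
  have hm : C.relIndex N * Nat.card C = Nat.card N := by
    rw [← Subgroup.relIndex_bot_left C, ← Subgroup.relIndex_bot_left N, mul_comm, relIndex_mul_relIndex _ _ _ bot_le hCN]
  have h2 : 2 ≤ C.relIndex N := by
    have : C.relIndex N ≠ 1 := fun e => hP (relIndex_eq_one.mp e)
    have : C.relIndex N ≠ 0 := Subgroup.index_ne_zero_of_finite (H := C.subgroupOf N)
    omega
  have h3 : 2 * (N.index * Nat.card C) ≤ Nat.card G := by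
    rw [← N.index_mul_card, ← hm, mul_left_comm]
    exact Nat.mul_le_mul_left _ (Nat.mul_le_mul_right _ h2)
  have h4 : 0 < N.index := Nat.pos_of_ne_zero index_ne_zero_of_finite
  omega

/-- Two primes not dividing a common class size: one of them is good. -/
theorem good_or_good {p q : ℕ} (hp : p.Prime) (hq : q.Prime) (hpq : p ≠ q) (h : ¬ Adj G p q) :
    Good G p ∨ Good G q := by
  haveI := Fact.mk hp
  haveI := Fact.mk hq
  by_contra hcon
  push Not at hcon
  let P : Sylow p G := default
  let Q : Sylow q G := default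
  have hP := two_mul_ncard_covered (P : Subgroup G) fun hle => hcon.1 ⟨P, hle⟩
  have hQ := two_mul_ncard_covered (Q : Subgroup G) fun hle => hcon.2 ⟨Q, hle⟩
  have hsub : (Set.univ : Set G) ⊆
      (covered (P : Subgroup G) \ {1}) ∪ (covered (Q : Subgroup G) \ {1}) ∪ {1} := by
    intro x _
    by_cases hx1 : x = 1
    · exact Or.inr hx1
    by_cases hxp : p ∣ idx x
    · exact Or.inl (Or.inr ⟨exists_conj_mem_cent Q fun hxq => h (adj_of_dvd hp hq hpq hxp hxq), hx1⟩)
    · exact Or.inl (Or.inl ⟨exists_conj_mem_cent P hxp, hx1⟩)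
  have h1 := (Set.ncard_le_ncard hsub).trans
    ((Set.ncard_union_le _ _).trans (Nat.add_le_add_right (Set.ncard_union_le _ _) _))
  rw [Set.ncard_univ, Set.ncard_singleton] at h1
  omega

theorem adj_of_not_good {p q : ℕ} (hp : p.Prime) (hq : q.Prime) (hpq : p ≠ q) (h1 : ¬ Good G p)
    (h2 : ¬ Good G q) : Adj G p q :=
  by_contra fun h => (good_or_good hp hq hpq h).elim h1 h2

/-- If `p` divides no class size then its Sylow subgroup is central. -/
theorem le_center_of_not_vert {p : ℕ} [Fact p.Prime] (P : Sylow p G) (h : ¬ Vert G p) :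
    (P : Subgroup G) ≤ center G := by
  have hC : centralizer ((P : Subgroup G) : Set G) = ⊤ := by
    by_contra hne
    obtain ⟨a, -, ha⟩ := CfsgLib.PrimRecog.exists_not_conj_mem (T := (⊤ : Subgroup G))
      (P := centralizer ((P : Subgroup G) : Set G)) fun hle => hne (top_le_iff.mp hle)
    obtain ⟨g, hg⟩ := exists_conj_mem_cent P (x := a) fun hd => h ⟨a, hd⟩
    exact ha g⁻¹ (mem_top _) (by simpa using hg)
  intro x hx
  rw [Subgroup.mem_center_iff]
  intro y
  exact (mem_centralizer_iff.mp (hC ▸ mem_top y : y ∈ centralizer ((P : Subgroup G) : Set G)) x hx).symm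

end CfsgLib.ClassPrimes
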