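import Cfsg.Agent.Lib.ClassPrimes.Basic

/-!
The prime graph on class sizes of a non-solvable group has diameter at most two.
-/

set_option autoImplicit false
set_option linter.style.haveILetI false

namespace CfsgLib.ClassPrimes

open Subgroup CfsgLib.ClassGraph
open scoped commutatorElement

variable {G : Type*} [Group G] [Finite G]

theorem eq_top_of_not_dvd {p : ℕ} (hp : p.Prime) (M : Subgroup G) (h : IsPGroup p M) (x : G)
    (hx : x ∈ M) (hxd : ¬ p ∣ orderOf x) : x = 1 := by
  obtain ⟨k, hk⟩ := h ⟨x, hx⟩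
  have hk' : orderOf x ∣ p ^ k := orderOf_dvd_of_pow_eq_one (by simpa using congrArg Subtype.val hk)
  exact orderOf_eq_one_iff.mp (Nat.eq_one_of_dvd_coprimes
    (((Nat.coprime_comm.mp ((hp.coprime_iff_not_dvd).mpr hxd))).pow_right k) dvd_rfl hk')

/-- A non-solvable group has, for each prime `r`, a non-central element of order prime to `r`. -/
theorem exists_noncentral {M : Type*} [Group M] [Finite M] (hM : ¬ Group.IsSolvable M) {r : ℕ}
    (hr : r.Prime) : ∃ w : M, w ∉ center M ∧ ¬ r ∣ orderOf w := by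
  haveI := Fact.mk hr
  by_contra hcon
  push Not at hcon
  have hq : IsPGroup r (M ⧸ center M) := by
    intro a
    obtain ⟨x, rfl⟩ := QuotientGroup.mk_surjective a
    obtain ⟨k, m, hm, hkm⟩ := Nat.exists_eq_pow_mul_and_not_dvd (orderOf_pos x).ne' r hr.ne_one
    refine ⟨k, ?_⟩
    rw [← QuotientGroup.mk_pow, QuotientGroup.eq_one_iff]
    by_contra hc
    refine hm (dvd_trans (hcon _ hc) (orderOf_dvd_of_pow_eq_one ?_))
    rw [← pow_mul, ← hkm, pow_orderOf_eq_one]
  haveI : Group.IsNilpotent (M ⧸ center M) := hq.isNilpotent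
  haveI : Group.IsSolvable (center M) := Group.isSolvable_of_comm fun a b =>
    Subtype.ext (Subgroup.mem_center_iff.mp b.2 a)
  refine hM (Group.isSolvable_of_ker_le_range (center M).subtype (QuotientGroup.mk' (center M)) (le_of_eq ?_))
  rw [QuotientGroup.ker_mk', Subgroup.range_subtype]

/-- A good vertex is adjacent to a prime that is not good. -/
theorem exists_not_good_adj (hG : ¬ Group.IsSolvable G) {q : ℕ} (hq : q.Prime) (hgood : Good G q)
    (hv : Vert G q) : ∃ s : ℕ, s.Prime ∧ ¬ Good G s ∧ Adj G q s := by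
  haveI := Fact.mk hq
  classical
  by_contra hcon
  push Not at hcon
  set D := commutator G with hD
  -- elements of class size divisible by `q` centralise the derived group
  have hone : ∀ x : G, q ∣ idx x → D ≤ centralizer ({x} : Set G) := by
    intro x hx
    by_contra hne
    have h1 : (centralizer ({x} : Set G)).relIndex D ≠ 1 := fun e => hne (relIndex_eq_one.mp e)
    obtain ⟨s, hs, hsd⟩ := Nat.exists_prime_and_dvd h1
    haveI := Fact.mk hs
    have hsD : s ∣ Nat.card D := hsd.trans (relIndex_dvd_card _ _)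
    have hsg : ¬ Good G s := fun h => h.not_dvd_commutator hsD
    have hqs : q ≠ s := fun e => hsg (e ▸ hgood)
    exact hcon s hs hsg (adj_of_dvd hq hs hqs hx (hsd.trans (relIndex_dvd_index_of_normal' _ D)))
  -- the elements centralising `D` with class size prime to `q`
  let M : Subgroup G :=
    { carrier := {z | z ∈ centralizer (D : Set G) ∧ ¬ q ∣ idx z}
      one_mem' := ⟨one_mem _, by
        rw [show idx (1 : G) = 1 from idx_eq_one_iff.mpr (one_mem _)]
        exact hq.not_dvd_one⟩
      mul_mem' := by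
        rintro a b ⟨ha, ha'⟩ ⟨hb, hb'⟩
        refine ⟨mul_mem ha hb, ?_⟩
        have hn : ∀ c : G, c ∈ centralizer (D : Set G) → (centralizer ({c} : Set G)).Normal := by
          intro c hc
          refine ⟨fun x hx g => ?_⟩
          have : g * x * g⁻¹ = ⁅g, x⁆ * x := by rw [commutatorElement_def]; group
          rw [this]
          exact mul_mem (le_cent_of_mem hc (commutator_mem_commutator (mem_top _) (mem_top _))) hx
        haveI := hn a ha
        intro hd
        have hle : centralizer ({a} : Set G) ⊓ centralizer ({b} : Set G) ≤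
            centralizer ({a * b} : Set G) := fun c hc => mem_cent_mul hc.1 hc.2
        have h1 := hd.trans (index_dvd_of_le hle)
        rw [← relIndex_mul_index (inf_le_right : centralizer ({a} : Set G) ⊓ centralizer ({b} : Set G) ≤ _),
          inf_relIndex_right] at h1
        rcases hq.dvd_mul.mp h1 with h | h
        · exact ha' (h.trans (relIndex_dvd_index_of_normal _ _))
        · exact hb' h
      inv_mem' := by
        rintro a ⟨ha, ha'⟩
        refine ⟨inv_mem ha, ?_⟩
        have : centralizer ({a⁻¹} : Set G) = centralizer ({a} : Set G) := by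
          ext c
          simp only [mem_cent]
          exact ⟨fun h => Commute.inv_right_iff.mp (show Commute c a⁻¹ from h),
            fun h => (show Commute c a from h).inv_right⟩
        rwa [idx, this] }
  obtain ⟨x, hx⟩ := hv
  have hxc : x ∈ centralizer (D : Set G) :=
    mem_centralizer_iff.mpr fun d hd => mem_cent.mp (hone x hx hd)
  have : ∃ z : G, z ∈ centralizer (D : Set G) ∧ IsPrimePow (orderOf z) ∧ q ∣ idx z := by
    by_contra hne
    push Not at hne
    exact (mem_of_prime_power_parts M (fun z => z ∈ centralizer (D : Set G))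
      (fun z k hz => pow_mem hz k) (fun z hz hpp => ⟨hz, hne z hz hpp⟩) x hxc).2 hx
  obtain ⟨z, hz, ⟨r, k, hr, -, hrk⟩, hzq⟩ := this
  replace hr := hr.nat_prime
  have hDns : ¬ Group.IsSolvable D := by
    intro h
    obtain ⟨n, hn⟩ := (Group.isSolvable_def D).mp h
    refine hG ((Group.isSolvable_def G).mpr ⟨n + 1, ?_⟩)
    have hmap : ∀ m, derivedSeries G (m + 1) ≤ (derivedSeries D m).map D.subtype := by
      intro m
      induction m with
      | zero =>
        rw [zero_add, derivedSeries_one, derivedSeries_zero, ← MonoidHom.range_eq_map, Subgroup.range_subtype, hD]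
      | succ m ih =>
        rw [derivedSeries_succ G (m + 1), derivedSeries_succ D m, map_commutator]
        exact commutator_mono ih ih
    exact le_bot_iff.mp ((hmap n).trans (by rw [hn, Subgroup.map_bot]))
  obtain ⟨w, hwc, hwo⟩ := exists_noncentral hDns hr
  have hcomm : Commute z (w : G) := ((mem_centralizer_iff.mp hz) w w.2).symm
  have hco : (orderOf z).Coprime (orderOf (w : G)) := by
    rw [← hrk, Subgroup.orderOf_coe]
    exact ((hr.coprime_iff_not_dvd).mpr hwo).pow_left k
  have hzw : q ∣ idx (z * w) := hzq.trans (idx_dvd_mul hcomm hco).1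
  have hle := hone _ hzw
  apply hwc
  rw [Subgroup.mem_center_iff]
  intro d
  have h1 := mem_cent.mp (hle d.2)
  have h2 : (d : G) * z = z * d := (mem_centralizer_iff.mp hz) d d.2
  apply Subtype.ext
  show (d : G) * w = w * d
  calc (d : G) * w = z⁻¹ * ((d : G) * (z * w)) := by
        rw [← mul_assoc (d : G), h2]; group
    _ = z⁻¹ * (z * w * d) := by rw [h1]
    _ = w * d := by group

/-- If `q` is good and `r` does not divide the derived order, a Sylow `q`-centraliser has
index prime to `r`. -/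
theorem not_dvd_index_centralizer_sylow {M : Type*} [Group M] [Finite M] {q r : ℕ} [Fact q.Prime]
    (Q : Sylow q M) (hQ : normalizer ((Q : Subgroup M) : Set M) ≤ centralizer ((Q : Subgroup M) : Set M))
    (hr : ¬ r ∣ Nat.card (commutator M)) :
    ¬ r ∣ (centralizer ((Q : Subgroup M) : Set M)).index := by
  have hN : centralizer ((Q : Subgroup M) : Set M) = normalizer ((Q : Subgroup M) : Set M) :=
    le_antisymm (centralizer_le_normalizer _) hQ
  haveI : (commutator M ⊔ (Q : Subgroup M)).Normal := by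
    refine ⟨fun n hn g => ?_⟩
    have h2 : g * n * g⁻¹ = ⁅g, n⁆ * n := by rw [commutatorElement_def]; group
    rw [h2]
    exact mul_mem (mem_sup_left (commutator_mem_commutator (mem_top _) (mem_top _))) hn
  have htop := Sylow.normalizer_sup_eq_top' (P := Q)
    (le_sup_right : (Q : Subgroup M) ≤ commutator M ⊔ (Q : Subgroup M))
  set N := normalizer ((Q : Subgroup M) : Set M) with hNdef
  have htop' : commutator M ⊔ N = ⊤ := by
    refine top_le_iff.mp (htop ▸ sup_le le_sup_right (sup_le le_sup_left ?_))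
    exact le_trans le_normalizer le_sup_right
  intro hd
  refine hr (hd.trans ?_)
  have h1 := relIndex_mul_index (inf_le_left : commutator M ⊓ N ≤ commutator M)
  have h2 := relIndex_mul_index (inf_le_right : commutator M ⊓ N ≤ N)
  rw [inf_relIndex_left] at h1
  rw [inf_relIndex_right] at h2
  have h3 : (commutator M).relIndex N = (commutator M).index := by
    rw [← relIndex_sup_right N (commutator M), sup_comm, htop', relIndex_top_right]
  rw [h3, ← h1, mul_comm (N.relIndex (commutator M))] at h2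
  rw [hN, Nat.eq_of_mul_eq_mul_left (Nat.pos_of_ne_zero index_ne_zero_of_finite) h2]
  exact relIndex_dvd_card _ _

/-- A `p`-subgroup of `M` centralises some Sylow `q`-subgroup of `G` inside `M`. -/
theorem exists_sylow_centralized {p q : ℕ} [Fact p.Prime] [Fact q.Prime] (hp : Good G p) (hq : Good G q)
    (M : Subgroup G) (Q : Sylow q G) (hQM : (Q : Subgroup G) ≤ M) (y : G) (hyM : y ∈ M)
    (hy : IsPGroup p (zpowers y)) :
    ∃ Q' : Sylow q G, (Q' : Subgroup G) ≤ M ∧ y ∈ centralizer ((Q' : Subgroup G) : Set G) := by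
  let QM : Sylow q M := Q.subtype hQM
  have hcoe : ∀ a : M, a ∈ (QM : Subgroup M) ↔ (a : G) ∈ (Q : Subgroup G) := fun a => by
    rw [Sylow.coe_subtype, mem_subgroupOf]
  have hgood : normalizer ((QM : Subgroup M) : Set M) ≤ centralizer ((QM : Subgroup M) : Set M) := by
    intro n hn
    have hn' : (n : G) ∈ normalizer ((Q : Subgroup G) : Set G) := by
      rw [mem_normalizer_iff]
      intro a
      constructor
      · intro ha
        have := (mem_normalizer_iff.mp hn ⟨a, hQM ha⟩).mp ((hcoe _).mpr ha)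
        exact (hcoe _).mp this
      · intro ha
        have haM : a ∈ M := by
          have h1 := mul_mem (mul_mem (inv_mem n.2) (hQM ha)) n.2
          simpa [mul_assoc] using h1
        exact (hcoe _).mp ((mem_normalizer_iff.mp hn ⟨a, haM⟩).mpr ((hcoe _).mpr ha))
    rw [mem_centralizer_iff]
    intro a ha
    exact Subtype.ext (mem_centralizer_iff.mp (hq.all Q hn') a ((hcoe a).mp ha))
  have hr : ¬ p ∣ Nat.card (commutator M) := by
    intro hd
    refine hp.not_dvd_commutator (hd.trans ?_)
    rw [← card_map_of_injective M.subtype_injective]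
    refine card_dvd_of_le ?_
    rw [commutator_def, map_commutator, commutator_def]
    exact commutator_mono le_top le_top
  have hidx := not_dvd_index_centralizer_sylow QM hgood hr
  obtain ⟨R, hR⟩ := CfsgLib.KnownSimple51.Pronormal.exists_sylow_le_of_not_dvd_index hidx
  have hyM' : IsPGroup p (zpowers (⟨y, hyM⟩ : M)) := by
    rintro ⟨_, j, rfl⟩
    obtain ⟨k, hk⟩ := hy ⟨y ^ j, j, rfl⟩
    exact ⟨k, Subtype.ext (Subtype.ext (by simpa using congrArg Subtype.val hk))⟩
  obtain ⟨S, hS⟩ := hyM'.exists_le_sylow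
  obtain ⟨g, hg⟩ := MulAction.exists_smul_eq M R S
  have h1 : g⁻¹ * ⟨y, hyM⟩ * g ∈ centralizer ((QM : Subgroup M) : Set M) := by
    have h2 := hS (mem_zpowers _)
    rw [← hg, Sylow.coe_subgroup_smul, Subgroup.mem_pointwise_smul_iff_inv_smul_mem, ← map_inv,
      MulAut.smul_def, MulAut.conj_apply, inv_inv] at h2
    exact hR h2
  refine ⟨(g : G) • Q, ?_, ?_⟩
  · intro a ha
    rw [Sylow.coe_subgroup_smul, Subgroup.mem_pointwise_smul_iff_inv_smul_mem, ← map_inv,
      MulAut.smul_def, MulAut.conj_apply, inv_inv] at ha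
    have := mul_mem (mul_mem g.2 (hQM ha)) (inv_mem g.2)
    simpa [mul_assoc] using this
  · rw [mem_centralizer_iff]
    intro a ha
    rw [SetLike.mem_coe, Sylow.coe_subgroup_smul, Subgroup.mem_pointwise_smul_iff_inv_smul_mem, ← map_inv,
      MulAut.smul_def, MulAut.conj_apply, inv_inv] at ha
    have h3 := congrArg Subtype.val
      (mem_centralizer_iff.mp h1 ⟨(g : G)⁻¹ * a * g, hQM ha⟩ ((hcoe _).mpr ha))
    simp only [Subgroup.coe_mul, InvMemClass.coe_inv] at h3
    calc a * y = (g : G) * ((g : G)⁻¹ * a * g * ((g : G)⁻¹ * y * g)) * (g : G)⁻¹ := by group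
      _ = (g : G) * ((g : G)⁻¹ * y * g * ((g : G)⁻¹ * a * g)) * (g : G)⁻¹ := by rw [h3]
      _ = y * a := by group

/-- The class size of an element of a good Sylow subgroup is prime to every good prime. -/
theorem not_dvd_idx_of_mem {p q : ℕ} [Fact p.Prime] [Fact q.Prime] (hp : Good G p) (hq : Good G q)
    (P : Sylow p G) {y : G} (hy : y ∈ (P : Subgroup G)) : ¬ q ∣ idx y := by
  obtain ⟨Q', -, hy'⟩ := exists_sylow_centralized hp hq ⊤ (default : Sylow q G) le_top y (mem_top _)
    (P.2.to_le (zpowers_le.mpr hy))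
  exact not_dvd_idx_of_sylow_le Q' (le_cent_of_mem hy')

/-- Replace an element of class size divisible by `q` by a power of order prime to `p`. -/
theorem exists_pow_part {p q : ℕ} [Fact p.Prime] [Fact q.Prime] (hp : Good G p) (hq : Good G q) (v : G)
    (hv : q ∣ idx v) : ∃ v' ∈ zpowers v, ¬ p ∣ orderOf v' ∧ q ∣ idx v' := by
  have hp' : p.Prime := Fact.out
  obtain ⟨k, m, hpm, hkm⟩ := Nat.exists_eq_pow_mul_and_not_dvd (orderOf_pos v).ne' p hp'.ne_one
  refine ⟨v ^ (p ^ k), pow_mem (mem_zpowers v) _, fun hd => hpm (hd.trans (orderOf_dvd_of_pow_eq_one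
    (by rw [← pow_mul, ← hkm, pow_orderOf_eq_one]))), ?_⟩
  by_contra hne
  obtain ⟨R, hR⟩ := CfsgLib.KnownSimple51.Pronormal.exists_sylow_le_of_not_dvd_index
    (H := centralizer ({v ^ (p ^ k)} : Set G)) hne
  have hy : IsPGroup p (zpowers (v ^ m)) := by
    rintro ⟨_, j, rfl⟩
    refine ⟨k, Subtype.ext ?_⟩
    show ((v ^ m) ^ j) ^ (p ^ k) = 1
    rw [← zpow_natCast, ← zpow_mul, mul_comm, zpow_mul, zpow_natCast, ← pow_mul, mul_comm m, ← hkm,
      pow_orderOf_eq_one, one_zpow]
  obtain ⟨Q', hQ', hcy⟩ := exists_sylow_centralized hp hq _ R hR (v ^ m)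
    (mem_cent.mpr ((Commute.refl v).pow_pow _ _)) hy
  refine not_dvd_idx_of_sylow_le Q' ?_ hv
  intro a ha
  have h1 := mem_cent.mp (hQ' ha)
  have h2 := mem_centralizer_iff.mp hcy a ha
  have hco : (p ^ k).Coprime m := Nat.Coprime.pow_left k ((hp'.coprime_iff_not_dvd).mpr hpm)
  have e : v = (v ^ (p ^ k)) ^ Nat.gcdA (p ^ k) m * (v ^ m) ^ Nat.gcdB (p ^ k) m := by
    rw [← zpow_natCast v, ← zpow_natCast v, ← zpow_mul, ← zpow_mul, ← zpow_add, ← Nat.gcd_eq_gcd_ab,
      Nat.Coprime.gcd_eq_one hco]
    simp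
  rw [mem_cent, e]
  exact ((show Commute a _ from h1).zpow_right _).mul_right ((show Commute a _ from h2).zpow_right _)

/-- Some element with class size divisible by `q` has class size divisible by that of a given element
of a Sylow `p`-subgroup. -/
theorem adj_of_sylow {p q : ℕ} [Fact p.Prime] [Fact q.Prime] (hp : Good G p) (hq : Good G q)
    (hnadj : ¬ Adj G p q) (hpq : p ≠ q) (hv : Vert G q) (P : Sylow p G) {y : G}
    (hy : y ∈ (P : Subgroup G)) {s : ℕ} (hs : s.Prime) (hsy : s ∣ idx y) (hqs : q ≠ s) : Adj G q s := by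
  obtain ⟨v, hv⟩ := hv
  obtain ⟨v', hv'z, hv'o, hv'⟩ := exists_pow_part hp hq v hv
  obtain ⟨g, hg⟩ := exists_conj_mem_cent P (x := v')
    fun hd => hnadj (adj_of_dvd Fact.out Fact.out hpq hd hv')
  have hyg : IsPGroup p (zpowers y) := P.2.to_le (zpowers_le.mpr hy)
  set u := g * v' * g⁻¹ with hu
  have hcomm : Commute y u := mem_centralizer_iff.mp hg y hy
  have huo : orderOf u = orderOf v' := by
    rw [hu, ← MulAut.conj_apply]
    exact MulEquiv.orderOf_eq _ _
  have hco : (orderOf y).Coprime (orderOf u) := by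
    obtain ⟨k, hk⟩ := hyg ⟨y, mem_zpowers y⟩
    have hd : orderOf y ∣ p ^ k := orderOf_dvd_of_pow_eq_one (by simpa using congrArg Subtype.val hk)
    rw [huo]
    exact ((((Fact.out : p.Prime).coprime_iff_not_dvd).mpr hv'o).pow_left k).coprime_dvd_left hd
  obtain ⟨h1, h2⟩ := idx_dvd_mul hcomm hco
  refine adj_of_dvd Fact.out hs hqs ((?_ : q ∣ idx u).trans h2) (hsy.trans h1)
  rwa [hu, idx_conj]

/-- The conjugacy action of `C(b)` is transitive on the class of `a` for coprime class sizes. -/
theorem exists_conj_of_coprime {a b : G} (h : (idx a).Coprime (idx b)) (g : G) :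
    ∃ c ∈ centralizer ({b} : Set G), g * a * g⁻¹ = c * a * c⁻¹ := by
  classical
  set A := centralizer ({a} : Set G) with hA
  set B := centralizer ({b} : Set G) with hB
  let f : B ⧸ A.subgroupOf B → G ⧸ A := Quotient.map' (fun x : B => (x : G)) fun x y hxy => by
    rw [QuotientGroup.leftRel_apply] at hxy ⊢
    exact hxy
  have hf : Function.Injective f := by
    rintro ⟨x⟩ ⟨y⟩ hxy
    have h4 : (x : G)⁻¹ * y ∈ A := QuotientGroup.leftRel_apply.mp (Quotient.exact' hxy)
    exact Quotient.sound' (QuotientGroup.leftRel_apply.mpr h4)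
  have hcard : Nat.card (G ⧸ A) ≤ Nat.card (B ⧸ A.subgroupOf B) := by
    rw [← index_eq_card, ← index_eq_card]
    show A.index ≤ A.relIndex B
    have h1 := relIndex_mul_index (inf_le_right : A ⊓ B ≤ B)
    rw [inf_relIndex_right] at h1
    have h2 : A.index ∣ A.relIndex B * B.index := h1 ▸ index_dvd_of_le inf_le_left
    exact Nat.le_of_dvd (Nat.pos_of_ne_zero (Subgroup.index_ne_zero_of_finite (H := A.subgroupOf B)))
      (Nat.Coprime.dvd_of_dvd_mul_right h h2)
  have hs : Function.Surjective f := by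
    haveI := Fintype.ofFinite (B ⧸ A.subgroupOf B)
    haveI := Fintype.ofFinite (G ⧸ A)
    refine ((Fintype.bijective_iff_injective_and_card f).mpr ⟨hf, ?_⟩).surjective
    rw [← Nat.card_eq_fintype_card, ← Nat.card_eq_fintype_card]
    exact le_antisymm (Nat.card_le_card_of_injective f hf) hcard
  obtain ⟨⟨c⟩, hc⟩ := hs (QuotientGroup.mk g)
  refine ⟨c, c.2, ?_⟩
  have hc' : (c : G)⁻¹ * g ∈ A := QuotientGroup.eq.mp hc
  have h3 := mem_cent.mp hc'
  calc g * a * g⁻¹ = (c : G) * ((c : G)⁻¹ * g * a) * g⁻¹ := by group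
    _ = (c : G) * (a * ((c : G)⁻¹ * g)) * g⁻¹ := by rw [h3]
    _ = (c : G) * a * (c : G)⁻¹ := by group

/-- Inside the normal closure of a Sylow subgroup some class size is divisible by the prime. -/
theorem exists_dvd_relIndex {p : ℕ} [Fact p.Prime] (hp : Good G p) (hv : Vert G p) (P : Sylow p G) :
    ∃ x ∈ normalClosure ((P : Subgroup G) : Set G),
      p ∣ (centralizer ({x} : Set G)).relIndex (normalClosure ((P : Subgroup G) : Set G)) := by
  set N := normalClosure ((P : Subgroup G) : Set G) with hN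
  have hPN : (P : Subgroup G) ≤ N := Subgroup.subset_normalClosure
  by_contra hcon
  push Not at hcon
  let PN : Sylow p N := P.subtype hPN
  have hc : ¬ Vert N p := by
    rintro ⟨⟨x, hx⟩, hd⟩
    refine hcon x hx ?_
    have : (centralizer ({x} : Set G)).subgroupOf N = centralizer ({(⟨x, hx⟩ : N)} : Set N) := by
      ext a
      rw [mem_subgroupOf, mem_cent, mem_cent]
      exact ⟨fun h => Subtype.ext h, fun h => congrArg Subtype.val h⟩
    show p ∣ ((centralizer ({x} : Set G)).subgroupOf N).index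
    rw [this]
    exact hd
  have hcen := le_center_of_not_vert PN hc
  -- `P` is characteristic in `N`, so normal in `G`, so central
  have hPnormal : (P : Subgroup G).Normal := by
    have hPN' : (PN : Subgroup N).Normal := ⟨fun a ha b => by
      rw [(Subgroup.mem_center_iff.mp (hcen ha)) b]; simpa [mul_assoc] using ha⟩
    haveI := PN.characteristic_of_normal hPN'
    have := ConjAct.normal_of_characteristic_of_normal (H := N) (K := (PN : Subgroup N))
    rwa [Sylow.coe_subtype, map_subgroupOf_eq_of_le hPN] at this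
  obtain ⟨x, hx⟩ := hv
  refine not_dvd_idx_of_sylow_le P ?_ hx
  intro a ha
  have hx' : x ∈ centralizer ((P : Subgroup G) : Set G) :=
    hp.all P (by rw [Subgroup.normalizer_eq_top_iff.mpr hPnormal]; exact mem_top x)
  exact le_cent_of_mem hx' ha

/-- Two good vertices are adjacent or have a common neighbour. -/
theorem good_adj_or_common {p q : ℕ} [Fact p.Prime] [Fact q.Prime] (hpq : p ≠ q) (hp : Good G p)
    (hq : Good G q) (hvp : Vert G p) (hvq : Vert G q) (hnadj : ¬ Adj G p q) :
    ∃ s : ℕ, s.Prime ∧ s ≠ p ∧ s ≠ q ∧ Adj G p s ∧ Adj G s q := by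
  by_contra hcon
  push Not at hcon
  let Q : Sylow q G := default
  obtain ⟨P, hPC⟩ := CfsgLib.KnownSimple51.Pronormal.exists_sylow_le_of_not_dvd_index (p := p)
    (not_dvd_index_centralizer_sylow Q (hq.all Q) hp.not_dvd_commutator)
  have hco : ∀ a ∈ (P : Subgroup G), ∀ b ∈ (Q : Subgroup G), (idx a).Coprime (idx b) := by
    intro a ha b hb
    refine Nat.coprime_of_dvd fun s hs h1 h2 => ?_
    have hsp : s ≠ p := fun e => not_dvd_idx_of_mem hp hp P ha (e ▸ h1)
    have hsq : s ≠ q := fun e => not_dvd_idx_of_mem hp hq P ha (e ▸ h1)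
    exact hcon s hs hsp hsq (adj_of_sylow hq hp (fun h => hnadj h.symm) hpq.symm hvp Q hb hs h2 hsp.symm)
      (adj_of_sylow hp hq hnadj hpq hvq P ha hs h1 hsq.symm).symm
  set N₁ := normalClosure ((P : Subgroup G) : Set G) with hN₁
  set N₂ := normalClosure ((Q : Subgroup G) : Set G) with hN₂
  have hcomm : ∀ a ∈ (P : Subgroup G), ∀ b ∈ (Q : Subgroup G), ∀ g h : G,
      Commute (g * a * g⁻¹) (h * b * h⁻¹) := by
    intro a ha b hb g h
    have hab : Commute a b := (mem_centralizer_iff.mp (hPC ha) b hb).symm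
    obtain ⟨c, hc, e⟩ := exists_conj_of_coprime (hco a ha b hb) (h⁻¹ * g)
    have hcb : c * b * c⁻¹ = b := by rw [mem_cent.mp hc]; group
    have h1 : Commute (c * a * c⁻¹) b := by
      have := (hab.map (MulAut.conj c).toMonoidHom)
      simpa [hcb] using this
    rw [← e] at h1
    have h2 := h1.map (MulAut.conj h).toMonoidHom
    simp only [MulEquiv.coe_toMonoidHom, MulAut.conj_apply] at h2
    convert h2 using 1
    group
  have h12 : N₂ ≤ centralizer (N₁ : Set G) := by
    rw [hN₁, hN₂, normalClosure, normalClosure, closure_le]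
    intro b hb
    rw [SetLike.mem_coe, centralizer_closure, mem_centralizer_iff]
    intro a ha
    obtain ⟨a₀, ha₀, hca⟩ := Group.mem_conjugatesOfSet_iff.mp ha
    obtain ⟨b₀, hb₀, hcb⟩ := Group.mem_conjugatesOfSet_iff.mp hb
    obtain ⟨g, rfl⟩ := isConj_iff.mp hca
    obtain ⟨h, rfl⟩ := isConj_iff.mp hcb
    exact (hcomm a₀ ha₀ b₀ hb₀ g h).eq
  obtain ⟨x₁, hx₁, hd₁⟩ := exists_dvd_relIndex hp hvp P
  obtain ⟨x₂, hx₂, hd₂⟩ := exists_dvd_relIndex hq hvq Q
  have hc12 : ∀ a ∈ N₁, ∀ b ∈ N₂, a * b = b * a := fun a ha b hb => mem_centralizer_iff.mp (h12 hb) a ha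
  have e1 : ∀ a ∈ N₁, (a * (x₁ * x₂) = x₁ * x₂ * a ↔ a * x₁ = x₁ * a) := by
    intro a ha
    rw [← mul_assoc, mul_assoc x₁, ← hc12 a ha x₂ hx₂, ← mul_assoc x₁, mul_left_inj]
  have e2 : ∀ b ∈ N₂, (b * (x₁ * x₂) = x₁ * x₂ * b ↔ b * x₂ = x₂ * b) := by
    intro b hb
    rw [← mul_assoc, ← hc12 x₁ hx₁ b hb, mul_assoc, mul_assoc, mul_right_inj]
  have f1 : (centralizer ({x₁ * x₂} : Set G)).subgroupOf N₁ = (centralizer ({x₁} : Set G)).subgroupOf N₁ := by
    ext a
    simp only [mem_subgroupOf, mem_cent]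
    exact e1 a a.2
  have f2 : (centralizer ({x₁ * x₂} : Set G)).subgroupOf N₂ = (centralizer ({x₂} : Set G)).subgroupOf N₂ := by
    ext a
    simp only [mem_subgroupOf, mem_cent]
    exact e2 a a.2
  refine hnadj (adj_of_dvd Fact.out Fact.out hpq (x := x₁ * x₂) ?_ ?_)
  · refine hd₁.trans ?_
    rw [relIndex, ← f1]
    exact relIndex_dvd_index_of_normal' _ N₁
  · refine hd₂.trans ?_
    rw [relIndex, ← f2]
    exact relIndex_dvd_index_of_normal' _ N₂

/-- Diameter at most two. -/
theorem adj_or_common (hG : ¬ Group.IsSolvable G) {p q : ℕ} (hp : p.Prime) (hq : q.Prime) (hpq : p ≠ q)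
    (hvp : Vert G p) (hvq : Vert G q) :
    Adj G p q ∨ ∃ r : ℕ, r.Prime ∧ r ≠ p ∧ r ≠ q ∧ Adj G p r ∧ Adj G r q := by
  haveI := Fact.mk hp
  haveI := Fact.mk hq
  by_cases h : Adj G p q
  · exact Or.inl h
  refine Or.inr ?_
  by_cases hgp : Good G p
  · by_cases hgq : Good G q
    · exact good_adj_or_common hpq hgp hgq hvp hvq h
    · obtain ⟨s, hs, hsg, hadj⟩ := exists_not_good_adj hG hp hgp hvp
      have hsp : s ≠ p := fun e => hsg (e ▸ hgp)
      have hsq : s ≠ q := fun e => h (e ▸ hadj)
      exact ⟨s, hs, hsp, hsq, hadj, adj_of_not_good hs hq hsq hsg hgq⟩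
  · have hgq : Good G q := (good_or_good hp hq hpq h).resolve_left hgp
    obtain ⟨s, hs, hsg, hadj⟩ := exists_not_good_adj hG hq hgq hvq
    have hsq : s ≠ q := fun e => hsg (e ▸ hgq)
    have hsp : s ≠ p := fun e => h (e ▸ hadj).symm
    exact ⟨s, hs, hsp, hsq, adj_of_not_good hp hs hsp.symm hgp hsg, hadj.symm⟩

end CfsgLib.ClassPrimes
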