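import Cfsg.Agent.Lib.AbelianFrob.Involution
import Cfsg.Agent.Lib.PermPrime.DegP.PerfectDet
import Cfsg.Agent.Lib.Characters.Values
import Cfsg.Agent.Lib.Characters.SmallDegreeSylow

/-!
Traces of idempotents built from a representation: an involution centralising a large odd subgroup,
and commuting involutions in a faithful representation of degree three.
-/

set_option autoImplicit false
set_option linter.style.haveILetI false
set_option linter.unusedSectionVars false

noncomputable section

namespace CfsgLib.ClassPrimes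

open Cfsg CfsgLib.Characters

universe u

/-- The trace of an idempotent is a natural number. -/
theorem exists_nat_trace {n : ℕ} {E : Module.End ℂ (Fin n → ℂ)} (h : IsIdempotentElem E) :
    ∃ r : ℕ, LinearMap.trace ℂ _ E = r :=
  ⟨_, ((LinearMap.isProj_range_iff_isIdempotentElem E).mpr h).trace⟩

/-- Operators commuting with an idempotent of rank at most one commute on its range. -/
theorem mul_comm_on_range {n : ℕ} {E A B : Module.End ℂ (Fin n → ℂ)} (h : IsIdempotentElem E)
    (htr : LinearMap.trace ℂ _ E = 0 ∨ LinearMap.trace ℂ _ E = 1) (hA : Commute A E) (hB : Commute B E) :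
    A * B * E = B * A * E := by
  have hp := (LinearMap.isProj_range_iff_isIdempotentElem E).mpr h
  rcases htr with h0 | h1
  · rw [hp.trace, Nat.cast_eq_zero, Submodule.finrank_eq_zero, LinearMap.range_eq_bot] at h0
    rw [h0, mul_zero, mul_zero]
  rw [hp.trace, Nat.cast_eq_one] at h1
  obtain ⟨⟨v, hv⟩, -, hspan⟩ := finrank_eq_one_iff'.mp h1
  have hEv : E v = v := hp.map_id v hv
  have key : ∀ C : Module.End ℂ (Fin n → ℂ), Commute C E → ∃ c : ℂ, C v = c • v := by
    intro C hC
    have e1 : C (E v) = E (C v) := LinearMap.congr_fun hC.eq v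
    rw [hEv] at e1
    obtain ⟨c, hc⟩ := hspan ⟨C v, e1 ▸ LinearMap.mem_range_self E (C v)⟩
    exact ⟨c, (congrArg Subtype.val hc).symm⟩
  obtain ⟨a, ha⟩ := key A hA
  obtain ⟨b, hb⟩ := key B hB
  refine LinearMap.ext fun w => ?_
  obtain ⟨t, ht⟩ := hspan ⟨E w, LinearMap.mem_range_self E w⟩
  have ht' : E w = t • v := (congrArg Subtype.val ht).symm
  simp only [Module.End.mul_apply, ht', map_smul, ha, hb, smul_smul]
  ring_nf

variable {G : Type u} [Group G] {n : ℕ} (ρ : Representation ℂ G (Fin n → ℂ))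

/-- The projection on an eigenspace of an involution. -/
def half (s : ℂ) (d : G) : Module.End ℂ (Fin n → ℂ) := (2 : ℂ)⁻¹ • (1 + s • ρ d)

theorem half_idem {s : ℂ} (hs : s * s = 1) {d : G} (hd : d * d = 1) :
    IsIdempotentElem (half ρ s d) := by
  have hdd : ρ d * ρ d = 1 := by rw [← map_mul, hd, map_one]
  show half ρ s d * half ρ s d = half ρ s d
  rw [half, smul_mul_smul_comm, mul_add, add_mul, add_mul, one_mul, mul_one, one_mul,
    smul_mul_smul_comm, hs, hdd, one_smul]
  module

theorem half_commute {s : ℂ} {d g : G} (h : Commute g d) : Commute (ρ g) (half ρ s d) := by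
  unfold half
  exact ((Commute.one_right _).add_right ((h.map ρ).smul_right s)).smul_right _

theorem commute_half {X : Module.End ℂ (Fin n → ℂ)} {s : ℂ} {d : G} (h : Commute X (ρ d)) :
    Commute X (half ρ s d) := by
  unfold half
  exact ((Commute.one_right _).add_right (h.smul_right s)).smul_right _

theorem half_half_commute {s t : ℂ} {d e : G} (h : Commute d e) :
    Commute (half ρ s d) (half ρ t e) :=
  commute_half ρ (half_commute ρ h.symm).symm

theorem trace_half_mul {s t : ℂ} {d e : G} :
    LinearMap.trace ℂ _ (half ρ s d * half ρ t e) =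
      (4 : ℂ)⁻¹ * (ρ.character 1 + s * ρ.character d + t * ρ.character e + s * t * ρ.character (d * e)) := by
  simp only [half, Representation.character, map_one, map_mul]
  simp only [smul_mul_assoc, mul_smul_comm, mul_add, add_mul, one_mul, mul_one, map_smul, map_add,
    smul_eq_mul]
  ring

theorem trace_half_three {s t w : ℂ} {d e f : G} :
    LinearMap.trace ℂ _ (half ρ s d * half ρ t e * half ρ w f) =
      (8 : ℂ)⁻¹ * (ρ.character 1 + s * ρ.character d + t * ρ.character e + w * ρ.character f +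
        s * t * ρ.character (d * e) + s * w * ρ.character (d * f) + t * w * ρ.character (e * f) +
        s * t * w * ρ.character (d * e * f)) := by
  simp only [half, Representation.character, map_one, map_mul]
  simp only [smul_mul_assoc, mul_smul_comm, mul_add, add_mul, one_mul, mul_one, map_smul, map_add,
    smul_eq_mul, smul_add, smul_smul]
  ring

/-- The average over a subgroup. -/
def avg (A : Subgroup G) [Fintype A] : Module.End ℂ (Fin n → ℂ) :=
  (Nat.card A : ℂ)⁻¹ • ∑ y : A, ρ y

theorem avg_idem (A : Subgroup G) [Fintype A] : IsIdempotentElem (avg ρ A) := by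
  have h1 : ∀ z : A, ρ z * ∑ y : A, ρ y = ∑ y : A, ρ y := by
    intro z
    rw [Finset.mul_sum]
    exact Fintype.sum_equiv (Equiv.mulLeft z) _ _ fun y => by
      rw [← map_mul]; rfl
  have hA : (Nat.card A : ℂ) ≠ 0 := Nat.cast_ne_zero.mpr Nat.card_pos.ne'
  show avg ρ A * avg ρ A = avg ρ A
  rw [avg, smul_mul_smul_comm, Finset.sum_mul, Finset.sum_congr rfl fun z _ => h1 z, Finset.sum_const,
    Finset.card_univ, ← Nat.card_eq_fintype_card, ← Nat.cast_smul_eq_nsmul ℂ, smul_smul]
  congr 1
  field_simp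

/-- The sum of a character over a subgroup is a natural multiple of the order. -/
theorem exists_nat_sum {χ : G → ℂ} (hχ : IsCharacter G χ) (A : Subgroup G) [Fintype A] :
    ∃ r : ℕ, ∑ y : A, χ y = (Nat.card A : ℂ) * r := by
  obtain ⟨m, σ, rfl⟩ := hχ
  obtain ⟨r, hr⟩ := exists_nat_trace (avg_idem σ A)
  refine ⟨r, ?_⟩
  rw [← hr, avg, map_smul, map_sum, smul_eq_mul,
    mul_inv_cancel_left₀ (Nat.cast_ne_zero.mpr Nat.card_pos.ne')]
  rfl

/-- The same for the part negated by an involution centralising the subgroup. -/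
theorem exists_nat_sum_sub {χ : G → ℂ} (hχ : IsCharacter G χ) (A : Subgroup G) [Fintype A] {d : G}
    (hd : d * d = 1) (hc : ∀ y ∈ A, Commute y d) :
    ∃ r : ℕ, ∑ y : A, (χ y - χ ((y : G) * d)) = 2 * (Nat.card A : ℂ) * r := by
  obtain ⟨m, σ, rfl⟩ := hχ
  have hcomm : Commute (avg σ A) (half σ (-1) d) := by
    refine commute_half σ ?_
    unfold avg
    exact (Commute.sum_left _ (fun y : A => σ y) _ fun y _ => (hc y y.2).map σ).smul_left _
  obtain ⟨r, hr⟩ := exists_nat_trace
    ((avg_idem σ A).mul_of_commute hcomm (half_idem σ (by norm_num) hd))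
  refine ⟨r, ?_⟩
  have hA : (Nat.card A : ℂ) ≠ 0 := Nat.cast_ne_zero.mpr Nat.card_pos.ne'
  rw [← hr]
  have e : avg σ A * half σ (-1) d =
      ((Nat.card A : ℂ)⁻¹ * 2⁻¹) • (∑ y : A, σ y - ∑ y : A, σ ((y : G) * d)) := by
    simp only [avg, half, smul_mul_smul_comm, mul_add, mul_one, mul_smul_comm, smul_mul_assoc, Finset.sum_mul, map_mul]
    module
  rw [e, map_smul, map_sub, map_sum, map_sum, smul_eq_mul, Finset.sum_sub_distrib]
  simp only [Representation.character]
  field_simp

section Simple

variable {T : Type u} [Group T] [Fintype T] [IsSimpleGroup T] (hperf : commutator T = ⊤)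

theorem eq_top_of_mem {t : T} (ht : t ≠ 1) (K : Subgroup T) (hK : K.Normal) (h : t ∈ K) : K = ⊤ :=
  hK.eq_bot_or_eq_top.resolve_left fun e => ht (by rwa [e, Subgroup.mem_bot] at h)

theorem one_lt_degree (χ : IrrCharacter T) (hχ : χ ≠ principalIrr T) {Q : ℕ} (hQ : (χ : T → ℂ) 1 = Q)
    (hperf : commutator T = ⊤) : 1 < Q := by
  rcases Nat.lt_or_ge 1 Q with h | h
  · exact h
  exfalso
  have hQ1 : (χ : T → ℂ) 1 = 1 := by
    interval_cases Q
    · exact absurd (by simpa using hQ) (irr_one_ne_zero χ)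
    · simpa using hQ
  obtain ⟨K, hKn, hK⟩ := CfsgLib.Blocks.exists_kerSubgroup χ
  have hle : commutator T ≤ K := by
    rw [commutator_def, Subgroup.commutator_le]
    exact fun a _ b _ => (hK _).mpr (CfsgLib.SmallDegree.linear_commutator χ.2 hQ1 a b)
  rw [hperf, top_le_iff] at hle
  obtain ⟨t, ht⟩ := exists_ne (1 : T)
  exact hχ (CfsgLib.AbelianFrob.eq_principal_of_value_eq (fun L => eq_top_of_mem ht L)
    ((hK t).mp (hle ▸ Subgroup.mem_top t)))

include hperf in
/-- An involution centralising an odd subgroup `A` acts trivially in a character of degree below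
`2|A|` which is blind to it on `A \ {1}`. -/
theorem no_involution {χ : IrrCharacter T} (hne : χ ≠ principalIrr T) {A : Subgroup T}
    (hodd : Odd (Nat.card A)) {d : T} (hd : orderOf d = 2) (hc : ∀ y ∈ A, Commute y d)
    (hinv : ∀ y ∈ A, y ≠ 1 → (χ : T → ℂ) (y * d) = (χ : T → ℂ) y) {Q : ℕ}
    (hQ : (χ : T → ℂ) 1 = Q) (hlt : Q < 2 * Nat.card A) : False := by
  classical
  haveI := Fintype.ofFinite A
  have hdd : d * d = 1 := by rw [← pow_two, ← hd, pow_orderOf_eq_one]
  have hd1 : d ≠ 1 := fun e => by rw [e, orderOf_one] at hd; omega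
  obtain ⟨r, hr⟩ := exists_nat_sum_sub (irr_isCharacter χ) A hdd hc
  rw [Finset.sum_eq_single (1 : A) (fun y _ hy => by
    rw [hinv y y.2 fun e => hy (Subtype.ext e), sub_self]) (by simp)] at hr
  simp only [Subgroup.coe_one, one_mul] at hr
  obtain ⟨v, hv⟩ := CfsgLib.AbelianFrob.exists_int_value hd χ
  have h4 := CfsgLib.PermPrime.DegP.four_dvd_of_perfect hperf (irr_isCharacter χ) hd
    (d := (Q : ℤ)) (v := v) (by rw [hQ]; norm_num) hv
  have hnorm := norm_le_degree_of_isCharacter (irr_isCharacter χ) d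
  rw [hQ, hv] at hr
  have hr' : (Q : ℤ) - v = 2 * (Nat.card A : ℤ) * r := by exact_mod_cast hr
  rw [hv, hQ] at hnorm
  simp only [Complex.norm_intCast, Complex.norm_natCast] at hnorm
  have habs : |v| ≤ (Q : ℤ) := by exact_mod_cast hnorm
  have hv2 := abs_le.mp habs
  have hr0 : r = 0 := by
    have hA0 : 0 < Nat.card A := Nat.card_pos
    have hr2 : r < 2 := by
      by_contra hge
      push Not at hge
      have h2A : 2 * (Nat.card A : ℤ) * 2 ≤ 2 * (Nat.card A : ℤ) * r :=
        mul_le_mul_of_nonneg_left (by exact_mod_cast hge) (by positivity)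
      have : (Q : ℤ) < 2 * Nat.card A := by exact_mod_cast hlt
      omega
    interval_cases r
    · rfl
    · exfalso
      obtain ⟨c, hc'⟩ := hodd
      rw [hc'] at hr'
      push_cast at hr'
      omega
  rw [hr0] at hr'
  refine hne (CfsgLib.AbelianFrob.eq_principal_of_value_eq (fun L => eq_top_of_mem hd1 L) ?_)
  rw [hv, hQ]
  simp only [Nat.cast_zero, mul_zero] at hr'
  have : v = (Q : ℤ) := by omega
  rw [this]; norm_num

include hperf in
theorem value_three {χ : IrrCharacter T} (hne : χ ≠ principalIrr T) (h3 : (χ : T → ℂ) 1 = 3) {t : T}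
    (ht : t * t = 1) (ht1 : t ≠ 1) : (χ : T → ℂ) t = -1 := by
  have ho : orderOf t = 2 := orderOf_eq_prime (by rw [pow_two]; exact ht) ht1
  obtain ⟨v, hv⟩ := CfsgLib.AbelianFrob.exists_int_value ho χ
  have h4 := CfsgLib.PermPrime.DegP.four_dvd_of_perfect hperf (irr_isCharacter χ) ho
    (d := 3) (v := v) (by rw [h3]; norm_num) hv
  have hnorm := norm_le_degree_of_isCharacter (irr_isCharacter χ) t
  rw [hv, h3] at hnorm
  simp only [Complex.norm_intCast, Complex.norm_ofNat] at hnorm
  have habs : |v| ≤ (3 : ℤ) := by exact_mod_cast hnorm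
  have hv2 := abs_le.mp habs
  have hcase : v = -1 ∨ v = 3 := by omega
  rcases hcase with rfl | rfl
  · rw [hv]; norm_num
  · exact absurd (CfsgLib.AbelianFrob.eq_principal_of_value_eq (fun L => eq_top_of_mem ht1 L)
      (by rw [hv, h3]; norm_num)) hne

include hperf in
/-- A character of degree three leaves no room for an elementary abelian group of order eight. -/
theorem no_three_involutions {χ : IrrCharacter T} (hne : χ ≠ principalIrr T)
    (h3 : (χ : T → ℂ) 1 = 3) {a b c : T} (ha : a * a = 1) (hb : b * b = 1) (hc : c * c = 1)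
    (hab : Commute a b) (hac : Commute a c) (hbc : Commute b c) (h1 : a ≠ 1) (h2 : b ≠ 1)
    (h2' : c ≠ 1) (h4 : a * b ≠ 1) (h5 : a * c ≠ 1) (h6 : b * c ≠ 1) (h7 : a * b * c ≠ 1) :
    False := by
  have hv : ∀ t : T, t * t = 1 → t ≠ 1 → (χ : T → ℂ) t = -1 := fun t ht ht1 =>
    value_three hperf hne h3 ht ht1
  obtain ⟨m, ρ, -, hρ⟩ := χ.2
  have e1 : half ρ 1 a * half ρ 1 b = half ρ 1 b * half ρ 1 a := half_half_commute ρ hab
  have hcm : Commute (half ρ 1 a * half ρ 1 b) (half ρ 1 c) :=
    (half_half_commute ρ hac).mul_left (half_half_commute ρ hbc)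
  obtain ⟨r, hr⟩ := exists_nat_trace (((half_idem ρ (one_mul 1) ha).mul_of_commute e1
    (half_idem ρ (one_mul 1) hb)).mul_of_commute hcm (half_idem ρ (one_mul 1) hc))
  have hab' : a * b * (a * b) = 1 := by rw [hab.symm.mul_mul_mul_comm, ha, hb, one_mul]
  have hac' : a * c * (a * c) = 1 := by rw [hac.symm.mul_mul_mul_comm, ha, hc, one_mul]
  have hbc' : b * c * (b * c) = 1 := by rw [hbc.symm.mul_mul_mul_comm, hb, hc, one_mul]
  have habc' : a * b * c * (a * b * c) = 1 := by
    rw [(hac.mul_left hbc).symm.mul_mul_mul_comm, hab', hc, one_mul]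
  rw [trace_half_three, hρ] at hr
  simp only [one_mul] at hr
  rw [h3, hv a ha h1, hv b hb h2, hv c hc h2', hv _ hab' h4, hv _ hac' h5, hv _ hbc' h6,
    hv _ habc' h7] at hr
  have : (2 : ℂ) * r + 1 = 0 := by rw [← hr]; norm_num
  have : (2 * r + 1 : ℕ) = 0 := by exact_mod_cast this
  omega

include hperf in
/-- In a faithful representation of degree three the centraliser of a fours group is abelian. -/
theorem commute_of_fours {χ : IrrCharacter T} (hne : χ ≠ principalIrr T) (h3 : (χ : T → ℂ) 1 = 3)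
    {a b : T} (ha : a * a = 1) (hb : b * b = 1) (hab : Commute a b) (h1 : a ≠ 1) (h2 : b ≠ 1)
    (h4 : a * b ≠ 1) {g g' : T} (hga : Commute g a) (hgb : Commute g b) (hga' : Commute g' a)
    (hgb' : Commute g' b) : Commute g g' := by
  have hv : ∀ t : T, t * t = 1 → t ≠ 1 → (χ : T → ℂ) t = -1 := fun t ht ht1 =>
    value_three hperf hne h3 ht ht1
  obtain ⟨m, ρ, -, hρ⟩ := χ.2
  have hab' : a * b * (a * b) = 1 := by rw [hab.symm.mul_mul_mul_comm, ha, hb, one_mul]
  have key : ∀ s t : ℂ, s * s = 1 → t * t = 1 →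
      (3 - s - t - s * t = 0 ∨ 3 - s - t - s * t = 4) →
      ρ g * ρ g' * (half ρ s a * half ρ t b) = ρ g' * ρ g * (half ρ s a * half ρ t b) := by
    intro s t hs ht hst
    refine mul_comm_on_range ((half_idem ρ hs ha).mul_of_commute (half_half_commute ρ hab)
      (half_idem ρ ht hb)) ?_ ((half_commute ρ hga).mul_right (half_commute ρ hgb))
      ((half_commute ρ hga').mul_right (half_commute ρ hgb'))
    rw [trace_half_mul, hρ, h3, hv a ha h1, hv b hb h2, hv _ hab' h4]
    rcases hst with h | h
    · left; linear_combination (4 : ℂ)⁻¹ * h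
    · right; linear_combination (4 : ℂ)⁻¹ * h
  have hsum : half ρ 1 a * half ρ 1 b + half ρ 1 a * half ρ (-1) b +
      (half ρ (-1) a * half ρ 1 b + half ρ (-1) a * half ρ (-1) b) = 1 := by
    have e : ∀ x : T, half ρ 1 x + half ρ (-1) x = 1 := fun x => by
      unfold half
      module
    rw [← mul_add, ← mul_add, e, mul_one, mul_one, e]
  have hρcomm : ρ g * ρ g' = ρ g' * ρ g := by
    calc ρ g * ρ g' = ρ g * ρ g' * (half ρ 1 a * half ρ 1 b + half ρ 1 a * half ρ (-1) b +
          (half ρ (-1) a * half ρ 1 b + half ρ (-1) a * half ρ (-1) b)) := by rw [hsum, mul_one]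
      _ = ρ g' * ρ g * (half ρ 1 a * half ρ 1 b + half ρ 1 a * half ρ (-1) b +
          (half ρ (-1) a * half ρ 1 b + half ρ (-1) a * half ρ (-1) b)) := by
        simp only [mul_add]
        rw [key 1 1 (by norm_num) (by norm_num) (by norm_num),
          key 1 (-1) (by norm_num) (by norm_num) (by norm_num),
          key (-1) 1 (by norm_num) (by norm_num) (by norm_num),
          key (-1) (-1) (by norm_num) (by norm_num) (by norm_num)]
      _ = ρ g' * ρ g := by rw [hsum, mul_one]
  by_contra hgg
  have hne1 : g * g' * (g' * g)⁻¹ ≠ 1 := fun e => hgg (mul_inv_eq_one.mp e)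
  refine hne (CfsgLib.AbelianFrob.eq_principal_of_value_eq (fun L => eq_top_of_mem hne1 L) ?_)
  have hinv : ρ (g * g' * (g' * g)⁻¹) = 1 := by
    rw [map_mul, map_mul, hρcomm, ← map_mul, ← map_mul, mul_inv_cancel, map_one]
  rw [← hρ]
  simp only [Representation.character, hinv, map_one]

end Simple

end CfsgLib.ClassPrimes
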