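import Cfsg.Agent.Lib.ClassPrimes.Idem
import Cfsg.Agent.Lib.SmithTyrer.Setup
import Cfsg.Agent.Lib.BlockCover.Regular

/-!
Degrees in the principal block of a simple three-prime group with an inverted abelian Sylow subgroup.
-/

set_option autoImplicit false
set_option linter.style.haveILetI false
set_option linter.unusedSectionVars false

noncomputable section

namespace CfsgLib.ClassPrimes

open Cfsg CfsgLib.Characters CfsgLib.AbelianFrob
open scoped Classical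

universe u

/-- The arithmetic of the norm equation. -/
theorem norm_cases {k d δ σ₀ : ℤ} (hk : 2 ≤ k) (hδ : δ = 1 ∨ δ = -1) (h1 : 1 ≤ σ₀)
    (h : (d - δ) ^ 2 + (k - 1) * d ^ 2 + σ₀ = 3) :
    (σ₀ = 2 ∧ (k * d - δ) * (k * d - δ) = 1) ∨ (σ₀ = 1 ∧ k * d - δ = 2 * δ) := by
  have hd : d ^ 2 ≤ (k - 1) * d ^ 2 := le_mul_of_one_le_left (sq_nonneg d) (by omega)
  have hd2 : d ^ 2 ≤ 2 := by nlinarith [sq_nonneg (d - δ)]
  have hd3 : -1 ≤ d ∧ d ≤ 1 := by constructor <;> nlinarith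
  obtain ⟨hd4, hd5⟩ := hd3
  interval_cases d <;> rcases hδ with rfl | rfl <;> norm_num at h ⊢
  all_goals
    first
    | (exfalso; omega)
    | (have hk3 : k ≤ 3 := by omega
       interval_cases k <;> norm_num at h ⊢ <;> omega)
    | omega

/-- An inverted Sylow subgroup of order at least five in a simple group of order `2^i a^j b^l` gives
an irreducible character whose degree is a power of `b` and blind to `a'`-parts on that subgroup. -/
theorem exists_pair_degree {T : Type u} [Group T] [Fintype T] [IsSimpleGroup T]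
    (hperf : commutator T = ⊤) {a b : ℕ} [Fact a.Prime] (ha2 : a ≠ 2)
    (hπ : ∀ p : ℕ, p.Prime → p ∣ Nat.card T → p = 2 ∨ p = a ∨ p = b)
    {A : Sylow a T} {n : T} (h : CfsgLib.SmithTyrer.Inverted A n)
    (h5 : 5 ≤ Nat.card ↥(A : Subgroup T)) :
    ∃ (χ : IrrCharacter T) (Q j : ℕ), χ ≠ principalIrr T ∧ (χ : T → ℂ) 1 = Q ∧ Q = b ^ j ∧ 0 < j ∧
      Q ∣ Nat.card T ∧ Nat.card ↥(A : Subgroup T) ≤ Q + 2 ∧
      ∀ y ∈ (A : Subgroup T), y ≠ 1 → ∀ d : T, Commute y d → ¬ a ∣ orderOf d →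
        (χ : T → ℂ) (y * d) = (χ : T → ℂ) y := by
  have hap := (Fact.out : a.Prime)
  obtain ⟨M, hM⟩ := CfsgLib.BlockCover.exists_isPModular hap
  have hab := h.comm
  have hfrob := h.fpf
  have hAne : (A : Subgroup T) ≠ ⊥ := fun e => by rw [e, Subgroup.card_bot] at h5; omega
  have hCN := h.relIndex_eq hAne
  have hm : (CP A).relIndex (NP A) + 1 < Nat.card ↥(A : Subgroup T) := by omega
  obtain ⟨μ, c, d, δ, S⟩ := exists_struct A hab hfrob hM hm
  obtain ⟨h1mem, hc1⟩ := S.principal_mem_rest hab hfrob hM hm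
  have hk := S.two_le_card_exc hab hfrob hm
  obtain ⟨χ₀, hχ₀⟩ := Finset.card_pos.1 (show 0 < S.exc.card by omega)
  obtain ⟨ψ, hψ, rfl⟩ := S.mem_exc.1 hχ₀
  have hnorm := S.norm_eq hab hfrob hM hψ
  rw [hCN] at hnorm
  push_cast at hnorm
  have hone : 1 ≤ ∑ χ ∈ S.rest, c χ ^ 2 := by
    refine le_trans (le_of_eq ?_) (Finset.single_le_sum (fun χ _ => sq_nonneg (c χ)) h1mem)
    rw [hc1, one_pow]
  have hge : ∀ χ ∈ S.rest, 1 ≤ c χ ^ 2 := fun χ hχ => by
    have := sq_pos_of_ne_zero (S.A_ne_zero hab hfrob hM (by omega) hχ)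
    omega
  obtain ⟨θ₁, hθ1, hθQ, hθd⟩ := irr_degree_dvd_card (μ ψ)
  have hμne : μ ψ ≠ principalIrr T := fun e => (S.mem_rest.1 h1mem).2 (e ▸ hχ₀)
  have hg1 : ¬ a ∣ orderOf (1 : T) := by rw [orderOf_one]; exact hap.not_dvd_one
  have hrel := S.regular_rel hM hψ hg1
  have hle : ((S.rest.erase (principalIrr T)).card : ℤ) ≤ ∑ χ ∈ S.rest.erase (principalIrr T), c χ ^ 2 := by
    rw [Finset.card_eq_sum_ones, Nat.cast_sum]
    exact Finset.sum_le_sum fun χ hχ => by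
      push_cast; exact hge χ (Finset.mem_erase.1 hχ).2
  have hsplit : ∑ χ ∈ S.rest.erase (principalIrr T), c χ ^ 2 + 1 = ∑ χ ∈ S.rest, c χ ^ 2 := by
    rw [← Finset.add_sum_erase _ _ h1mem, hc1, one_pow, add_comm]
  rw [← Finset.add_sum_erase _ _ h1mem, hc1, principalIrr_apply] at hrel
  rcases norm_cases (k := (S.exc.card : ℤ)) (d := d) (by exact_mod_cast hk) S.sign hone hnorm with
    ⟨hsum, hε⟩ | ⟨hsum, hε⟩
  swap
  · exfalso
    have he : S.rest.erase (principalIrr T) = ∅ := Finset.card_eq_zero.1 (by omega)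
    rw [he, Finset.sum_empty, hθ1] at hrel
    have hz : ((S.exc.card : ℤ) * d - δ) * (θ₁ : ℤ) + 1 = 0 := by
      have : (((S.exc.card : ℤ) * d - δ : ℤ) : ℂ) * ((θ₁ : ℤ) : ℂ) + 1 = 0 := by
        push_cast
        linear_combination hrel
      exact_mod_cast this
    rw [hε] at hz
    rcases S.sign with e | e <;> rw [e] at hz <;> omega
  -- one further character in the block
  have hcard : (S.rest.erase (principalIrr T)).card = 1 := by
    have hne : (S.rest.erase (principalIrr T)).card ≠ 0 := fun e => by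
      rw [Finset.card_eq_zero.1 e, Finset.sum_empty, hsum] at hsplit
      norm_num at hsplit
    omega
  obtain ⟨Ψ, hΨ⟩ := Finset.card_eq_one.1 hcard
  have hΨmem : Ψ ∈ S.rest.erase (principalIrr T) := by rw [hΨ]; exact Finset.mem_singleton_self _
  obtain ⟨hΨne, hΨrest⟩ := Finset.mem_erase.1 hΨmem
  obtain ⟨x, hx1, hxpos, hxd⟩ := irr_degree_dvd_card Ψ
  rw [hΨ, Finset.sum_singleton, hsum] at hsplit
  have hs : c Ψ * c Ψ = 1 := by rw [← pow_two]; linarith
  rw [hΨ, Finset.sum_singleton, hθ1, hx1] at hrel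
  have hrelZ : ((S.exc.card : ℤ) * d - δ) * (θ₁ : ℤ) + 1 + c Ψ * (x : ℤ) = 0 := by
    have : (((S.exc.card : ℤ) * d - δ : ℤ) : ℂ) * ((θ₁ : ℤ) : ℂ) + 1 + (c Ψ : ℂ) * ((x : ℤ) : ℂ) = 0 := by
      push_cast at hrel ⊢
      linear_combination hrel
    exact_mod_cast this
  set ε : ℤ := (S.exc.card : ℤ) * d - δ
  -- the degree of `Ψ` is `c Ψ` modulo the order of `A`
  haveI := Fintype.ofFinite ↥(A : Subgroup T)
  obtain ⟨r, hr⟩ := exists_nat_sum (irr_isCharacter Ψ) (A : Subgroup T)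
  rw [← Finset.add_sum_erase _ _ (Finset.mem_univ (1 : ↥(A : Subgroup T)))] at hr
  rw [Finset.sum_congr rfl (fun y hy => by
    exact S.value_rest hab hfrob hM hΨrest (isPPart_self A hM.1 y.2) y.2
      fun e => (Finset.mem_erase.1 hy).1 (Subtype.ext e) :
    ∀ y ∈ Finset.univ.erase (1 : ↥(A : Subgroup T)), (Ψ : T → ℂ) (y : T) = (c Ψ : ℂ)),
    Finset.sum_const, Finset.card_erase_of_mem (Finset.mem_univ _), Finset.card_univ,
    ← Nat.card_eq_fintype_card, nsmul_eq_mul, Nat.cast_sub (Nat.one_le_iff_ne_zero.2 Nat.card_pos.ne'),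
    Nat.cast_one] at hr
  simp only [Subgroup.coe_one] at hr
  rw [hx1] at hr
  have hrZ : (x : ℤ) + ((Nat.card ↥(A : Subgroup T) : ℤ) - 1) * c Ψ =
      (Nat.card ↥(A : Subgroup T) : ℤ) * r := by exact_mod_cast hr
  have hε' : ε = 1 ∨ ε = -1 := Int.eq_one_or_neg_one_of_mul_eq_one hε
  have hs' : c Ψ = 1 ∨ c Ψ = -1 := Int.eq_one_or_neg_one_of_mul_eq_one hs
  have hadj : x = θ₁ + 1 ∨ θ₁ = x + 1 := by
    rcases hε' with e | e <;> rcases hs' with e' | e' <;> rw [e, e'] at hrelZ <;> omega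
  have hx2 := one_lt_degree Ψ hΨne hx1 hperf
  have hθ2 := one_lt_degree (μ ψ) hμne hθ1 hperf
  have hdvd : (Nat.card ↥(A : Subgroup T) : ℤ) ∣ (x : ℤ) - c Ψ :=
    ⟨(r : ℤ) - c Ψ, by linear_combination hrZ⟩
  have hAle : Nat.card ↥(A : Subgroup T) ≤ x + 1 := by
    have hpos : 0 < (x : ℤ) - c Ψ := by rcases hs' with e' | e' <;> rw [e'] <;> omega
    have := Int.le_of_dvd hpos hdvd
    rcases hs' with e' | e' <;> rw [e'] at this <;> omega
  obtain ⟨i, hi⟩ := A.2.exists_card_eq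
  have hadvd : (a : ℤ) ∣ (x : ℤ) - c Ψ := by
    refine dvd_trans ?_ hdvd
    rw [hi]
    have : i ≠ 0 := fun e => by rw [e, pow_zero] at hi; omega
    exact_mod_cast dvd_pow_self a this
  have hax : ¬ a ∣ x := fun hd' => by
    have h1 : (a : ℤ) ∣ c Ψ := by simpa using (Int.natCast_dvd_natCast.2 hd').sub hadvd
    have h2 : (a : ℤ) ∣ 1 := hs ▸ h1.mul_right _
    exact hap.not_dvd_one (by exact_mod_cast h2)
  have haθ : ¬ a ∣ θ₁ := fun hd' => by
    have h1 : (a : ℤ) ∣ (2 : ℤ) := by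
      have e : (2 : ℤ) = -(ε * (θ₁ : ℤ)) - c Ψ * ((x : ℤ) - c Ψ) := by
        linear_combination hrelZ - hs
      rw [e]
      exact ((dvd_mul_of_dvd_right (Int.natCast_dvd_natCast.2 hd') _).neg_right).sub
        (dvd_mul_of_dvd_right hadvd _)
    exact ha2 ((Nat.prime_dvd_prime_iff_eq hap Nat.prime_two).1 (by exact_mod_cast h1))
  have hbpow : ∀ m : ℕ, m ∣ Nat.card T → 1 < m → ¬ a ∣ m → ¬ 2 ∣ m → ∃ j, 0 < j ∧ m = b ^ j := by
    intro m hm hm1 hma hm2
    have hall : ∀ q : ℕ, q.Prime → q ∣ m → q = b := fun q hq hqm => by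
      rcases hπ q hq (hqm.trans hm) with e | e | e
      · exact absurd (e ▸ hqm) hm2
      · exact absurd (e ▸ hqm) hma
      · exact e
    refine ⟨m.primeFactorsList.length, ?_, Nat.eq_prime_pow_of_unique_prime_dvd (by omega)
      fun {q} hq hqm => hall q hq hqm⟩
    refine List.length_pos_of_ne_nil fun e => ?_
    rcases (Nat.primeFactorsList_eq_nil m).1 e with e | e <;> omega
  have hinv : ∀ χ : IrrCharacter T, χ ∈ principalBlock M T → ∀ y ∈ (A : Subgroup T), y ≠ 1 →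
      ∀ d' : T, Commute y d' → ¬ a ∣ orderOf d' → (χ : T → ℂ) (y * d') = (χ : T → ℂ) y := by
    intro χ hχ y hy hy1 d' hcd hd'
    obtain ⟨m, hm'⟩ := IsPGroup.iff_orderOf.1 A.2 ⟨y, hy⟩
    rw [S.value hab hfrob hM hχ (isPPart_self A hM.1 hy) hy hy1,
      S.value hab hfrob hM hχ
        (⟨d', rfl, hcd, ⟨m, by rw [← Subgroup.orderOf_mk y hy, hm']⟩, hd'⟩ : IsPPart a (y * d') y)
        hy hy1]
  rcases Nat.even_or_odd x with hev | hodd
  · have hθodd : ¬ 2 ∣ θ₁ := fun e => by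
      obtain ⟨u, rfl⟩ := hev; obtain ⟨v, rfl⟩ := e; omega
    obtain ⟨j, hj, hjeq⟩ := hbpow θ₁ hθd hθ2 haθ hθodd
    exact ⟨μ ψ, θ₁, j, hμne, hθ1, hjeq, hj, hθd, by omega, hinv _ (S.mem ψ hψ)⟩
  · obtain ⟨j, hj, hjeq⟩ := hbpow x hxd hx2 hax (by obtain ⟨u, rfl⟩ := hodd; omega)
    exact ⟨Ψ, x, j, hΨne, hx1, hjeq, hj, hxd, by omega, hinv _ (S.mem_rest.1 hΨrest).1⟩

end CfsgLib.ClassPrimes
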