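import Cfsg.Agent.Lib.ClassPrimes.TwoPrimesSimple
import Cfsg.Agent.Lib.AutPSL.Main
import Cfsg.Agent.Lib.AutPSL.BalanceField
import Cfsg.Agent.Lib.AutPSL.Coset
import Mathlib.GroupTheory.Sylow

/-!
An almost simple group with class sizes divisible by at most two primes is simple.
-/

set_option autoImplicit false
set_option linter.style.haveILetI false
set_option linter.unusedSectionVars false

namespace CfsgLib.ClassPrimes

open Subgroup CfsgLib.ClassGraph CfsgLib.AutPSL Matrix

universe u

variable {G : Type*} [Group G] [Finite G]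

theorem TwoPrimes.of_dvd {H : Type*} [Group H] (h : TwoPrimes G)
    (hH : ∀ x : H, ∃ y : G, idx x ∣ idx y) : TwoPrimes H := fun x => by
  obtain ⟨y, hy⟩ := hH x
  exact (Finset.card_le_card (Nat.primeFactors_mono hy (idx_ne_zero y))).trans (h y)

theorem relIndex_cent_eq_idx (N : Subgroup G) (x : N) :
    (centralizer ({(x : G)} : Set G)).relIndex N = idx x := by
  rw [relIndex, idx]
  congr 1
  ext c
  rw [mem_subgroupOf, mem_cent, mem_cent]
  exact ⟨fun h => Subtype.ext h, fun h => congrArg Subtype.val h⟩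

theorem idx_dvd_of_normal (N : Subgroup G) [N.Normal] (x : N) : idx x ∣ idx (x : G) := by
  rw [← relIndex_cent_eq_idx]
  exact relIndex_dvd_index_of_normal' _ _

theorem TwoPrimes.normal (h : TwoPrimes G) (N : Subgroup G) [N.Normal] : TwoPrimes N :=
  h.of_dvd fun x => ⟨x, idx_dvd_of_normal N x⟩

theorem idx_map_dvd {H : Type*} [Group H] (f : G →* H) (hf : Function.Surjective f) (x : G) :
    idx (f x) ∣ idx x := by
  refine (index_dvd_of_le (H := (centralizer ({x} : Set G)).map f) ?_).trans (index_map_dvd _ hf)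
  rintro _ ⟨c, hc, rfl⟩
  exact mem_cent.2 (by rw [← map_mul, mem_cent.1 hc, map_mul])

theorem TwoPrimes.of_surjective {H : Type*} [Group H] (h : TwoPrimes G) (f : G →* H)
    (hf : Function.Surjective f) : TwoPrimes H :=
  h.of_dvd fun y => by
    obtain ⟨x, rfl⟩ := hf y
    exact ⟨x, idx_map_dvd f hf x⟩

theorem TwoPrimes.absurd_three (h : TwoPrimes G) {x : G} {m s : ℕ} (hm : 2 ≤ m.primeFactors.card)
    (hmx : m ∣ idx x) (hs : s.Prime) (hsx : s ∣ idx x) (hsm : ¬ s ∣ m) : False := by
  have hsub : insert s m.primeFactors ⊆ (idx x).primeFactors :=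
    Finset.insert_subset (Nat.mem_primeFactors.2 ⟨hs, hsx, idx_ne_zero x⟩)
      (Nat.primeFactors_mono hmx (idx_ne_zero x))
  have h1 := Finset.card_le_card hsub
  rw [Finset.card_insert_of_notMem fun e => hsm (Nat.mem_primeFactors.1 e).2.1] at h1
  have := h x
  omega

section Field

variable {F : Type} [Field F] [Fintype F]

theorem card_psl_two_pow {f : ℕ} (hF : Fintype.card F = 2 ^ f) (hf : f ≠ 0) :
    Nat.card (PSLG 2 F) = (2 ^ f + 1) * (2 ^ f * (2 ^ f - 1)) := by
  have hev : Even (Fintype.card F) := by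
    rw [hF]; exact (Nat.even_pow' hf).2 even_two
  have := CfsgLib.PSL2.card_psl (F := F)
  rwa [CfsgLib.PSL2.gcd_eq_one hev, one_mul, hF] at this

/-- Squaring is onto on the units. -/
theorem sq_surjective [CharP F 2] (d : Fˣ) : ∃ c : Fˣ, c ^ 2 = d := by
  have hr : Function.Bijective (frobenius F 2) := Finite.injective_iff_bijective.1 (frobenius F 2).injective
  obtain ⟨c, hc⟩ := hr.2 (d : F)
  rw [frobenius_def] at hc
  have hc0 : c ≠ 0 := fun e => d.ne_zero (by rw [← hc, e, zero_pow two_ne_zero])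
  exact ⟨Units.mk0 c hc0, Units.ext (by simpa using hc)⟩

theorem conjAut_mem_inner [CharP F 2] (g : GL (Fin 2) F) :
    ∃ p : PSLG 2 F, conjAut g = MulAut.conj p := by
  have h : conjAut g ∈ Cfsg.Inn (PSLG 2 F) := by
    rw [inner_eq_map]
    exact ⟨g, sq_surjective _, rfl⟩
  obtain ⟨p, hp⟩ := h
  exact ⟨p, hp.symm⟩

/-- Every automorphism is an inner one times a field automorphism. -/
theorem exists_conj_field [CharP F 2] (β : MulAut (PSLG 2 F)) :
    ∃ (p : PSLG 2 F) (σ : F ≃+* F), β = MulAut.conj p * fieldAut σ := by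
  obtain ⟨g, σ, h⟩ := aut_psl_structure le_rfl β
  obtain ⟨p, hp⟩ := conjAut_mem_inner g
  rcases h with rfl | rfl
  · exact ⟨p, σ, by rw [hp]⟩
  -- the inverse transpose is inner
  let w : SLG 2 F := ⟨!![0, 1; -1, 0], by rw [Matrix.det_fin_two_of]; ring⟩
  have hi : (iotaAut : MulAut (PSLG 2 F)) = MulAut.conj (QuotientGroup.mk w : PSLG 2 F) := by
    refine MulEquiv.ext fun x => ?_
    induction x using QuotientGroup.induction_on with
    | H t =>
      rw [iotaAut_mk, MulAut.conj_apply, ← QuotientGroup.mk_inv, ← QuotientGroup.mk_mul,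
        ← QuotientGroup.mk_mul]
      refine congrArg _ (Subtype.ext ?_)
      rw [slIota_coe, Matrix.SpecialLinearGroup.coe_inv, Matrix.SpecialLinearGroup.coe_mul,
        Matrix.SpecialLinearGroup.coe_mul, Matrix.SpecialLinearGroup.coe_inv, Matrix.adjugate_fin_two,
        Matrix.adjugate_fin_two]
      ext i j
      fin_cases i <;> fin_cases j <;> simp [w, Matrix.mul_apply, Matrix.vecMul, dotProduct, Fin.sum_univ_two]
  refine ⟨p * fieldAut σ (QuotientGroup.mk w), σ, ?_⟩
  rw [hi, hp, map_mul, ← CfsgLib.AutBalance.conj_map (fieldAut σ) (QuotientGroup.mk w : PSLG 2 F)]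
  group

theorem mk_injective [CharP F 2] {s t : SLG 2 F}
    (h : (QuotientGroup.mk s : PSLG 2 F) = QuotientGroup.mk t) : s = t := by
  have h' := QuotientGroup.eq.1 h
  rwa [CfsgLib.CASimple.center_sl_eq_bot, Subgroup.mem_bot, inv_mul_eq_one] at h'

theorem exists_pow_eq {q : ℕ} (hq : (q - 1).Prime) (hF : Fintype.card F = q) {x : F} (h0 : x ≠ 0)
    (h1 : x ≠ 1) {y : F} (hy : y ≠ 0) : ∃ i : ℤ, x ^ i = y := by
  classical
  have hc : Nat.card Fˣ = q - 1 := by rw [Nat.card_eq_fintype_card, Fintype.card_units, hF]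
  haveI := Fact.mk hq
  have := zpowers_eq_top_of_prime_card hc (g := Units.mk0 x h0) fun e =>
    h1 (by simpa using congrArg Units.val e)
  obtain ⟨i, hi⟩ := Subgroup.mem_zpowers_iff.1 (this ▸ Subgroup.mem_top (Units.mk0 y hy))
  exact ⟨i, by simpa using congrArg Units.val hi⟩

theorem eq_zero_or_one_of_fixed {q : ℕ} (hq : (q - 1).Prime) (hF : Fintype.card F = q)
    {σ : F ≃+* F} (hσ : σ ≠ 1) {x : F} (hx : σ x = x) : x = 0 ∨ x = 1 := by
  by_contra hcon
  push Not at hcon
  refine hσ (RingEquiv.ext fun y => ?_)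
  by_cases hy : y = 0
  · simp [hy]
  obtain ⟨i, rfl⟩ := exists_pow_eq hq hF hcon.1 hcon.2 hy
  rw [map_zpow₀, hx]
  rfl

/-- The field automorphism of the field of four elements squares. -/
theorem apply_eq_sq [CharP F 2] (hF : Fintype.card F = 4) {σ : F ≃+* F} (hσ : σ ≠ 1) (x : F) :
    σ x = x ^ 2 := by
  classical
  by_cases h0 : x = 0
  · simp [h0]
  by_cases h1 : x = 1
  · simp [h1]
  by_contra hne
  have hs0 : σ x ≠ 0 := (map_ne_zero σ).2 h0
  have hs1 : σ x ≠ 1 := fun e => h1 (σ.injective (e.trans (map_one σ).symm))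
  have hsx : σ x ≠ x := fun e =>
    (eq_zero_or_one_of_fixed (q := 4) (by norm_num) hF hσ e).elim h0 h1
  have hq1 : x ^ 2 ≠ 1 := fun e => h1 (frobenius_inj F 2 (by simpa [frobenius_def] using e))
  have hqx : x ^ 2 ≠ x := fun e => h1 (mul_left_cancel₀ h0 (by rw [← pow_two, e, mul_one]))
  have hcard : ({0, 1, x, σ x, x ^ 2} : Finset F).card = 5 := by
    rw [Finset.card_insert_of_notMem, Finset.card_insert_of_notMem, Finset.card_insert_of_notMem,
      Finset.card_pair hne]
    · simp [hsx.symm, hqx.symm]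
    · simp [Ne.symm h1, hs1.symm, hq1.symm]
    · simp [Ne.symm h0, hs0.symm, (pow_ne_zero 2 h0).symm]
  have := Finset.card_le_univ ({0, 1, x, σ x, x ^ 2} : Finset F)
  omega

theorem card_fixed_eight [CharP F 2] (hF : Fintype.card F = 8) {σ : F ≃+* F} (hσ : σ ≠ 1) :
    Nat.card {y : PSLG 2 F // fieldAut σ y = y} ≤ 6 := by
  classical
  have h01 : ∀ s : SLG 2 F, fieldAut σ (QuotientGroup.mk s : PSLG 2 F) = QuotientGroup.mk s →
      ∀ i j, s.1 i j = 0 ∨ s.1 i j = 1 := by
    intro s hs i j
    rw [fieldAut_mk] at hs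
    have := congrArg (fun t : SLG 2 F => t.1 i j) (mk_injective hs)
    simp only [slField_coe, Matrix.map_apply] at this
    exact eq_zero_or_one_of_fixed (q := 8) (by norm_num) hF hσ this
  let R : {y : PSLG 2 F // fieldAut σ y = y} → SLG 2 F := fun y => Quotient.out y.1
  have hR : ∀ y, (QuotientGroup.mk (R y) : PSLG 2 F) = y.1 := fun y => QuotientGroup.out_eq' y.1
  have hRe : ∀ y i j, (R y).1 i j = 0 ∨ (R y).1 i j = 1 := fun y =>
    h01 _ (by rw [hR]; exact y.2)
  let f : {y : PSLG 2 F // fieldAut σ y = y} →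
      {v : Bool × Bool × Bool × Bool // (v.1 && v.2.2.2) ≠ (v.2.1 && v.2.2.1)} := fun y =>
    ⟨(decide ((R y).1 0 0 = 1), decide ((R y).1 0 1 = 1), decide ((R y).1 1 0 = 1),
      decide ((R y).1 1 1 = 1)), by
      have hd : (R y).1.det = 1 := (R y).2
      rw [Matrix.det_fin_two] at hd
      rcases hRe y 0 0 with e00 | e00 <;> rcases hRe y 0 1 with e01 | e01 <;>
        rcases hRe y 1 0 with e10 | e10 <;> rcases hRe y 1 1 with e11 | e11 <;>
        simp [e00, e01, e10, e11] at hd ⊢⟩
  have hf : Function.Injective f := by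
    intro y z h
    have h' := congrArg Subtype.val h
    simp only [f, Prod.mk.injEq, decide_eq_decide] at h'
    obtain ⟨a, b, c, d⟩ := h'
    apply Subtype.ext
    rw [← hR y, ← hR z]
    refine congrArg _ (Subtype.ext (Matrix.ext fun i j => ?_))
    have hij : ((R y).1 i j = 1 ↔ (R z).1 i j = 1) := by
      fin_cases i <;> fin_cases j <;> assumption
    rcases hRe y i j with e | e <;> rcases hRe z i j with e' | e' <;> simp_all
  refine (Nat.card_le_card_of_injective f hf).trans ?_
  rw [Nat.card_eq_fintype_card]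
  decide

theorem exists_card_fixed_four [CharP F 2] (hF : Fintype.card F = 4) {σ : F ≃+* F} (hσ : σ ≠ 1) :
    ∃ q : PSLG 2 F, Nat.card {y : PSLG 2 F // (MulAut.conj q * fieldAut σ : MulAut (PSLG 2 F)) y = y} ≤ 2 := by
  classical
  obtain ⟨w, hw0, hw1⟩ : ∃ w : F, w ≠ 0 ∧ w ≠ 1 := by
    by_contra hcon
    push Not at hcon
    have hsub : (Finset.univ : Finset F) ⊆ {0, 1} := fun x _ => by
      by_cases hx : x = 0
      · simp [hx]
      · simp [hcon x hx]
    have := (Finset.card_le_card hsub).trans Finset.card_le_two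
    rw [Finset.card_univ, hF] at this
    omega
  have hfix : ∀ x : F, x * x = x → x = 0 ∨ x = 1 := fun x hx => by
    have : x * (x - 1) = 0 := by linear_combination hx
    exact (mul_eq_zero.1 this).imp_right sub_eq_zero.1
  have h2 : (2 : F) = 0 := CharTwo.two_eq_zero
  have hw3 : w * w * w = 1 := by
    have := FiniteField.pow_card_sub_one_eq_one w hw0
    rw [hF] at this
    linear_combination this
  have hww : w * w + w + 1 = 0 := by
    have h : (w - 1) * (w * w + w + 1) = 0 := by linear_combination hw3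
    exact (mul_eq_zero.1 h).resolve_left (sub_ne_zero.2 hw1)
  let u : SLG 2 F := ⟨!![1, w; 0, 1], by rw [Matrix.det_fin_two_of]; ring⟩
  refine ⟨QuotientGroup.mk u, ?_⟩
  have hshape : ∀ s : SLG 2 F, (MulAut.conj (QuotientGroup.mk u : PSLG 2 F) * fieldAut σ : MulAut (PSLG 2 F))
      (QuotientGroup.mk s) = QuotientGroup.mk s →
      s.1 1 0 = 0 ∧ s.1 0 0 = 1 ∧ s.1 1 1 = 1 ∧ (s.1 0 1 = 0 ∨ s.1 0 1 = 1) := by
    intro s hs
    rw [MulAut.mul_apply, fieldAut_mk, MulAut.conj_apply, ← QuotientGroup.mk_mul,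
      ← QuotientGroup.mk_inv, ← QuotientGroup.mk_mul] at hs
    have e := congrArg Subtype.val (mk_injective hs)
    rw [Matrix.SpecialLinearGroup.coe_mul, Matrix.SpecialLinearGroup.coe_mul,
      Matrix.SpecialLinearGroup.coe_inv, Matrix.adjugate_fin_two, slField_coe] at e
    have e00 := congrFun (congrFun e 0) 0
    have e01 := congrFun (congrFun e 0) 1
    have e10 := congrFun (congrFun e 1) 0
    have e11 := congrFun (congrFun e 1) 1
    simp [u, Matrix.mul_apply, Matrix.vecMul, dotProduct, Fin.sum_univ_two, apply_eq_sq hF hσ] at e00 e01 e10 e11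
    have hd : s.1.det = 1 := s.2
    rw [Matrix.det_fin_two] at hd
    set a := s.1 0 0
    set b := s.1 0 1
    set c := s.1 1 0
    set d := s.1 1 1
    rcases hfix c (by linear_combination e10) with hc | hc
    · have ha : a * a = a := by rw [hc] at e00; linear_combination e00
      have hd' : d * d = d := by rw [hc] at e11; linear_combination e11
      rcases hfix a ha with ha1 | ha1
      · rw [ha1, hc] at hd; simp at hd
      rcases hfix d hd' with hd1 | hd1
      · rw [hd1, hc] at hd; simp at hd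
      refine ⟨hc, ha1, hd1, hfix b ?_⟩
      rw [hc, ha1, hd1] at e01
      linear_combination e01
    · exfalso
      rw [hc] at e00
      have ha : a * a + a + w = 0 := by linear_combination e00 + a * h2
      have h4 : a * a * a * a = a := by
        have := FiniteField.pow_card a
        rw [hF] at this
        linear_combination this
      exact one_ne_zero (α := F)
        (by linear_combination (a * a + w - a + 1) * ha - h4 - hww + (1 - a - a * a * w) * h2 : (1 : F) = 0)
  let R : {y : PSLG 2 F // (MulAut.conj (QuotientGroup.mk u : PSLG 2 F) * fieldAut σ : MulAut (PSLG 2 F)) y = y} → SLG 2 F :=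
    fun y => Quotient.out y.1
  have hR : ∀ y, (QuotientGroup.mk (R y) : PSLG 2 F) = y.1 := fun y => QuotientGroup.out_eq' y.1
  have hRs := fun y => hshape (R y) (by rw [hR]; exact y.2)
  let f : {y : PSLG 2 F // (MulAut.conj (QuotientGroup.mk u : PSLG 2 F) * fieldAut σ : MulAut (PSLG 2 F)) y = y} → Bool :=
    fun y => decide ((R y).1 0 1 = 1)
  have hf : Function.Injective f := by
    intro y z h
    simp only [f, decide_eq_decide] at h
    obtain ⟨a, b, c, d⟩ := hRs y
    obtain ⟨a', b', c', d'⟩ := hRs z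
    apply Subtype.ext
    rw [← hR y, ← hR z]
    refine congrArg _ (Subtype.ext (Matrix.ext fun i j => ?_))
    fin_cases i <;> fin_cases j
    · exact b.trans b'.symm
    · rcases d with e | e <;> rcases d' with e' | e' <;> simp_all
    · exact a.trans a'.symm
    · exact c.trans c'.symm
  exact (Nat.card_le_card_of_injective f hf).trans (by simp)

end Field

/-- An almost simple group with at most two primes in each class size is simple. -/
theorem eq_top_of_almost_simple {A : Type*} [Group A] [Finite A] (h : TwoPrimes A) (T : Subgroup A)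
    [T.Normal] [IsSimpleGroup T] (hnc : ¬ IsMulCommutative T) (hC : centralizer (T : Set A) = ⊥) :
    T = ⊤ := by
  classical
  by_contra hne
  obtain ⟨F, iF, iF', hF, ⟨e⟩⟩ := simple_classify hnc (h.normal T)
  haveI : Fact (Nat.Prime 2) := ⟨Nat.prime_two⟩
  obtain ⟨f, hf, hff⟩ : ∃ f : ℕ, Fintype.card F = 2 ^ f ∧ f ≠ 0 := by
    rcases hF with e | e
    · exact ⟨2, by rw [e]; norm_num, two_ne_zero⟩
    · exact ⟨3, by rw [e]; norm_num, three_ne_zero⟩
  haveI : CharP F 2 := charP_of_card_eq_prime_pow hf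
  let φ : A →* MulAut (PSLG 2 F) := (MulAut.congr e).toMonoidHom.comp MulAut.conjNormal
  have hφ : ∀ (a : A) (y : PSLG 2 F), φ a y = e (MulAut.conjNormal a (e.symm y)) := fun a y => rfl
  have hφT : ∀ t : T, φ (t : A) = MulAut.conj (e t) := fun t => by
    refine MulEquiv.ext fun y => ?_
    rw [hφ, MulAut.conj_apply]
    have : MulAut.conjNormal (t : A) (e.symm y) = t * e.symm y * t⁻¹ :=
      Subtype.ext (by rw [MulAut.conjNormal_apply]; rfl)
    rw [this, map_mul, map_mul, map_inv, e.apply_symm_apply]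
  have hinj : ∀ a b : A, φ a = φ b → a = b := by
    intro a b hab
    have hmem : a⁻¹ * b ∈ centralizer (T : Set A) := by
      refine mem_centralizer_iff.2 fun y hy => ?_
      have h1 := DFunLike.congr_fun (show φ (a⁻¹ * b) = 1 by rw [map_mul, map_inv, hab, inv_mul_cancel])
        (e ⟨y, hy⟩)
      rw [hφ, e.symm_apply_apply, MulAut.one_apply] at h1
      have h2 := congrArg Subtype.val (e.injective h1)
      rw [MulAut.conjNormal_apply] at h2
      exact (mul_inv_eq_iff_eq_mul.1 h2).symm
    rw [hC, Subgroup.mem_bot, inv_mul_eq_one] at hmem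
    exact hmem
  obtain ⟨a, ha⟩ : ∃ a : A, a ∉ T := by
    by_contra hcon
    push Not at hcon
    exact hne ((eq_top_iff' T).2 hcon)
  obtain ⟨p, σ, hpσ⟩ := exists_conj_field (φ a)
  have hσ : σ ≠ 1 := fun e1 => ha (by
    rw [e1, map_one, mul_one] at hpσ
    have := hφT (e.symm p)
    rw [e.apply_symm_apply, ← hpσ] at this
    exact hinj _ _ this ▸ (e.symm p).2)
  have hcard := card_psl_two_pow hf hff
  rw [← Nat.card_congr e.toEquiv, ← hf] at hcard
  obtain ⟨q, k, hk, hbad⟩ : ∃ (q : PSLG 2 F) (k : ℕ),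
      Nat.card {y : PSLG 2 F // (MulAut.conj q * fieldAut σ : MulAut (PSLG 2 F)) y = y} ≤ k ∧
      ∀ m j : ℕ, j ≤ k → Nat.card T = j * m → ∃ r, 3 ≤ r.primeFactors.card ∧ r ∣ m := by
    rcases hF with h4 | h8
    · obtain ⟨q, hq⟩ := exists_card_fixed_four h4 hσ
      refine ⟨q, 2, hq, fun m j hj hm => ⟨30, ?_, ?_⟩⟩
      · exact (Finset.card_le_card (show ({2, 3, 5} : Finset ℕ) ⊆ (30 : ℕ).primeFactors by
          intro x hx
          simp only [Finset.mem_insert, Finset.mem_singleton] at hx
          rcases hx with rfl | rfl | rfl <;> exact Nat.mem_primeFactors.2 ⟨by norm_num, by norm_num, by norm_num⟩)).trans'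
          (by simp)
      · rw [h4] at hcard; interval_cases j <;> omega
    · refine ⟨1, 6, by simpa using card_fixed_eight h8 hσ, fun m j hj hm => ⟨42, ?_, ?_⟩⟩
      · exact (Finset.card_le_card (show ({2, 3, 7} : Finset ℕ) ⊆ (42 : ℕ).primeFactors by
          intro x hx
          simp only [Finset.mem_insert, Finset.mem_singleton] at hx
          rcases hx with rfl | rfl | rfl <;> exact Nat.mem_primeFactors.2 ⟨by norm_num, by norm_num, by norm_num⟩)).trans'
          (by simp)
      · rw [h8] at hcard; interval_cases j <;> omega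
  set a' : A := ((e.symm (q * p⁻¹) : T) : A) * a
  have ha' : φ a' = MulAut.conj q * fieldAut σ := by
    rw [map_mul, hφT, e.apply_symm_apply, hpσ, ← mul_assoc, ← map_mul, inv_mul_cancel_right]
  set K := (centralizer ({a'} : Set A)).subgroupOf T
  let ι : K → {y : PSLG 2 F // (MulAut.conj q * fieldAut σ : MulAut (PSLG 2 F)) y = y} := fun y => ⟨e y.1, by
    rw [← ha', hφ, e.symm_apply_apply]
    congr 1
    apply Subtype.ext
    rw [MulAut.conjNormal_apply]
    have hy : ((y.1 : T) : A) * a' = a' * (y.1 : T) := mem_cent.1 (mem_subgroupOf.1 y.2)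
    rw [← hy, mul_inv_cancel_right]⟩
  have hι : Function.Injective ι := fun y z hyz =>
    Subtype.ext (e.injective (congrArg Subtype.val hyz))
  have hKk := (Nat.card_le_card_of_injective ι hι).trans hk
  obtain ⟨r, hr, hrm⟩ := hbad K.index (Nat.card K) hKk K.card_mul_index.symm
  have hd : K.index ∣ idx a' := relIndex_dvd_index_of_normal' _ _
  have := (Finset.card_le_card (Nat.primeFactors_mono (hrm.trans hd) (idx_ne_zero a'))).trans (h a')
  omega

end CfsgLib.ClassPrimes
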