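import Cfsg.Agent.Lib.ClassPrimes.TwoPrimesAlmost
import Cfsg.Agent.Lib.Schur.Basic
import Cfsg.Agent.Lib.Small.OrderSixty
import Cfsg.Agent.Lib.Small.PSLTwoEight

/-!
Groups in which every class size has at most two prime divisors.
-/

set_option autoImplicit false
set_option linter.style.haveILetI false
set_option linter.unusedSectionVars false

namespace CfsgLib.ClassPrimes

open Subgroup CfsgLib.ClassGraph CfsgLib.AutPSL
open scoped commutatorElement

universe u

/-- Some element has class size prime to a given prime. -/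
theorem exists_avoid {T : Type u} [Group T] [Finite T] [IsSimpleGroup T]
    (hnc : ¬ IsMulCommutative T) (h2 : TwoPrimes T) {s : ℕ} (hs : s.Prime) :
    ∃ x : T, x ≠ 1 ∧ ¬ s ∣ idx x := by
  haveI := Fact.mk hs
  by_cases hd : s ∣ Nat.card T
  · obtain ⟨x, hx⟩ := exists_prime_orderOf_dvd_card' (G := T) s hd
    obtain ⟨Q, hQ⟩ := (IsPGroup.of_card (n := 1) (by rw [Nat.card_zpowers, hx, pow_one]) :
      IsPGroup s (zpowers x)).exists_le_sylow
    exact ⟨x, fun e => hs.ne_one (by rw [← hx, e, orderOf_one]),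
      not_dvd_idx_of_mem Q (sylow_comm hnc h2 s hs hd Q) (hQ (mem_zpowers x))⟩
  · obtain ⟨x, hx⟩ := exists_ne (1 : T)
    exact ⟨x, hx, fun h => hd (h.trans (idx_dvd_card x))⟩

theorem comm_of_subgroup_eq {G : Type*} [Group G] (H : Subgroup G)
    (h : ∀ a ∈ H, ∀ b ∈ H, a * b = b * a) : IsMulCommutative H :=
  ⟨⟨fun a b => Subtype.ext (h a a.2 b b.2)⟩⟩

/-- A normal simple non-abelian subgroup splits off, with the centre as complement. -/
theorem split_of_normal_simple {G : Type u} [Group G] [Finite G] (h : TwoPrimes G) (L : Subgroup G)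
    [L.Normal] [IsSimpleGroup L] (hnc : ¬ IsMulCommutative L) :
    center G ⊓ L = ⊥ ∧ center G ⊔ L = ⊤ := by
  set C := centralizer (L : Set G) with hC
  have hLC : ∀ x, x ∈ L → x ∈ C → x = 1 := by
    intro x hx hxc
    have hz : (⟨x, hx⟩ : L) ∈ center L :=
      mem_center_iff.2 fun y => Subtype.ext (mem_centralizer_iff.1 hxc y y.2)
    rw [CfsgLib.Small.center_eq_bot_of_nc hnc, Subgroup.mem_bot] at hz
    exact congrArg Subtype.val hz
  haveI : C.Normal := normal_centralizer
  set π := QuotientGroup.mk' C with hπ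
  have hπs : Function.Surjective π := QuotientGroup.mk'_surjective C
  haveI : (L.map π).Normal := (inferInstance : L.Normal).map π hπs
  let e : L →* L.map π := (π.comp L.subtype).codRestrict _ fun x => ⟨x, x.2, rfl⟩
  have he : Function.Bijective e := by
    refine ⟨(injective_iff_map_eq_one e).2 fun x hx => Subtype.ext (hLC x x.2 ?_), ?_⟩
    · exact (QuotientGroup.eq_one_iff _).1 (congrArg Subtype.val hx)
    · rintro ⟨_, x, hx, rfl⟩
      exact ⟨⟨x, hx⟩, rfl⟩
  haveI : IsSimpleGroup (L.map π) :=
    haveI : Nontrivial (L.map π) := (MulEquiv.ofBijective e he).toEquiv.symm.nontrivial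
    IsSimpleGroup.isSimpleGroup_of_surjective e he.2
  have hnc' : ¬ IsMulCommutative (L.map π) := fun hc => hnc ⟨⟨fun a b => he.1 (by
    rw [map_mul, map_mul]; exact hc.is_comm.comm _ _)⟩⟩
  have hcent : centralizer ((L.map π : Subgroup (G ⧸ C)) : Set (G ⧸ C)) = ⊥ := by
    refine (Subgroup.eq_bot_iff_forall _).2 fun q hq => ?_
    obtain ⟨g, rfl⟩ := hπs q
    refine (QuotientGroup.eq_one_iff g).2 (mem_centralizer_iff.2 fun l hl => ?_)
    have h1 : π (l * g * (g * l)⁻¹) = 1 := by
      rw [map_mul, map_inv, map_mul, map_mul, mem_centralizer_iff.1 hq _ (mem_map_of_mem π hl),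
        mul_inv_cancel]
    have h2 : l * g * (g * l)⁻¹ ∈ L := by
      rw [show l * g * (g * l)⁻¹ = l * (g * l⁻¹ * g⁻¹) by group]
      exact mul_mem hl ((inferInstance : L.Normal).conj_mem _ (inv_mem hl) g)
    exact mul_inv_eq_one.1 (hLC _ h2 ((QuotientGroup.eq_one_iff _).1 h1))
  have htop := eq_top_of_almost_simple (h.of_surjective π hπs) (L.map π) hnc' hcent
  have hsup : C ⊔ L = ⊤ := by
    refine (eq_top_iff' _).2 fun g => ?_
    obtain ⟨l, hl, hlg⟩ : π g ∈ L.map π := htop ▸ mem_top _
    have hmem : g * l⁻¹ ∈ C := (QuotientGroup.eq_one_iff _).1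
      (show π (g * l⁻¹) = 1 by rw [map_mul, map_inv, hlg, mul_inv_cancel])
    simpa using mul_mem (mem_sup_left (T := L) hmem) (mem_sup_right (S := C) hl)
  -- the centraliser is abelian
  have hCab : ∀ c ∈ C, ∀ d ∈ C, c * d = d * c := by
    intro c hc d hd
    by_contra hne
    have h1 : idx (⟨c, hc⟩ : C) ≠ 1 := fun e1 => hne
      (congrArg Subtype.val (mem_center_iff.1 (idx_eq_one_iff.1 e1) ⟨d, hd⟩)).symm
    obtain ⟨s, hs, hsd⟩ := Nat.exists_prime_and_dvd h1
    obtain ⟨x, hx1, hxs⟩ := exists_avoid hnc (h.normal L) hs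
    have hcx : ∀ y ∈ L, y * c = c * y := fun y hy => mem_centralizer_iff.1 hc y hy
    have e1 : idx x ∣ idx ((x : G) * c) := by
      rw [← relIndex_cent_eq_idx]
      refine dvd_trans (dvd_of_eq ?_) (relIndex_dvd_index_of_normal' _ L)
      rw [relIndex, relIndex]
      congr 1
      ext y
      rw [mem_subgroupOf, mem_subgroupOf, mem_cent, mem_cent]
      constructor
      · intro hy
        rw [← mul_assoc, hy, mul_assoc, hcx y y.2, ← mul_assoc]
      · intro hy
        rw [← mul_assoc, mul_assoc _ c, ← hcx y y.2, ← mul_assoc] at hy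
        exact mul_right_cancel hy
    have e2 : idx (⟨c, hc⟩ : C) ∣ idx ((x : G) * c) := by
      rw [← relIndex_cent_eq_idx]
      refine dvd_trans (dvd_of_eq ?_) (relIndex_dvd_index_of_normal' _ C)
      rw [relIndex, relIndex]
      congr 1
      ext y
      have hyx : (y : G) * x = x * y := (mem_centralizer_iff.1 y.2 x x.2).symm
      rw [mem_subgroupOf, mem_subgroupOf, mem_cent, mem_cent]
      constructor
      · intro hy
        rw [← mul_assoc, hyx, mul_assoc, hy, ← mul_assoc]
      · intro hy
        rw [← mul_assoc, hyx, mul_assoc, mul_assoc] at hy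
        exact mul_left_cancel hy
    exact h.absurd_three (two_le_card_primeFactors_idx hnc hx1) e1 hs (hsd.trans e2) hxs
  have hCZ : C = center G := by
    refine le_antisymm (fun c hc => mem_center_iff.2 fun g => ?_) (center_le_centralizer _)
    have hle : C ⊔ L ≤ centralizer ({c} : Set G) := sup_le
      (fun d hd => mem_cent.2 (hCab d hd c hc)) (fun l hl => mem_cent.2 (mem_centralizer_iff.1 hc l hl))
    rw [hsup] at hle
    exact mem_cent.1 (hle (mem_top g))
  rw [← hCZ]
  exact ⟨(Subgroup.eq_bot_iff_forall _).2 fun x hx => hLC x hx.2 hx.1, hsup⟩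

theorem exists_minimal_normal {G : Type*} [Group G] [Finite G] [Nontrivial G] :
    ∃ M : Subgroup G, M.Normal ∧ M ≠ ⊥ ∧ ∀ N : Subgroup G, N.Normal → N ≤ M → N = ⊥ ∨ N = M := by
  classical
  have hex : ∃ k, ∃ M : Subgroup G, M.Normal ∧ M ≠ ⊥ ∧ Nat.card M = k :=
    ⟨_, ⊤, inferInstance, top_ne_bot, rfl⟩
  obtain ⟨M, hMn, hMb, hMk⟩ := Nat.find_spec hex
  refine ⟨M, hMn, hMb, fun N hN hle => or_iff_not_imp_left.2 fun hNb => ?_⟩
  exact eq_of_le_of_card_ge hle (hMk ▸ Nat.find_min' hex ⟨N, hN, hNb, rfl⟩)

/-- A perfect group with at most two primes in each class size is simple. -/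
theorem isSimpleGroup_of_perfect : ∀ (n : ℕ) {L : Type u} [Group L] [Finite L], Nat.card L ≤ n →
    Nontrivial L → commutator L = ⊤ → TwoPrimes L → IsSimpleGroup L ∧ ¬ IsMulCommutative L := by
  intro n
  induction n with
  | zero => intro L _ _ hn; have := Nat.card_pos (α := L); omega
  | succ n ih =>
    intro L _ _ hn hnt hperf h2
    have hnc : ¬ IsMulCommutative L := fun hc => by
      have : commutator L = ⊥ := by
        rw [commutator_def, commutator_eq_bot_iff_le_centralizer]
        exact fun a _ => mem_centralizer_iff.2 fun b _ => hc.is_comm.comm b a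
      exact top_ne_bot (hperf.symm.trans this)
    refine ⟨?_, hnc⟩
    obtain ⟨M, hMn, hMb, hMmin⟩ := exists_minimal_normal (G := L)
    by_contra hns
    -- the minimal normal subgroup is proper
    have hMt : M ≠ ⊤ := by
      rintro rfl
      refine hns ⟨fun N hN => ?_⟩
      exact hMmin N hN le_top
    have hltQ : Nat.card (L ⧸ M) ≤ n := by
      have h1 := Subgroup.card_eq_card_quotient_mul_card_subgroup M
      have h2 : 2 ≤ Nat.card M := M.one_lt_card_iff_ne_bot.2 hMb
      have h3 := Nat.card_pos (α := L ⧸ M)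
      nlinarith
    have hltM : Nat.card M ≤ n := by
      have h1 : Nat.card M < Nat.card L := by
        refine lt_of_le_of_ne (Nat.le_of_dvd Nat.card_pos M.card_subgroup_dvd_card) fun e => hMt ?_
        exact Subgroup.eq_top_of_card_eq _ e
      omega
    set π := QuotientGroup.mk' M with hπ
    have hπs : Function.Surjective π := QuotientGroup.mk'_surjective M
    have hperfQ : commutator (L ⧸ M) = ⊤ := by
      rw [commutator_def, ← Subgroup.map_top_of_surjective π hπs, ← Subgroup.map_commutator,
        ← commutator_def, hperf]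
    haveI : Nontrivial (L ⧸ M) := QuotientGroup.nontrivial_iff.2 hMt
    obtain ⟨hTs, hTnc⟩ := ih hltQ inferInstance hperfQ (h2.of_surjective π hπs)
    have hT2 := h2.of_surjective π hπs
    rcases hMmin ⁅M, M⁆ inferInstance (commutator_le_left M M) with hab | hpM
    swap
    · -- a perfect minimal normal subgroup splits off
      haveI : Nontrivial M := (Subgroup.nontrivial_iff_ne_bot M).2 hMb
      have hperfM : commutator M = ⊤ := by
        refine map_injective M.subtype_injective ?_
        rw [map_subtype_commutator, hpM, ← MonoidHom.range_eq_map, range_subtype]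
      obtain ⟨hMs, hMnc⟩ := ih hltM inferInstance hperfM (h2.normal M)
      obtain ⟨-, hsup⟩ := split_of_normal_simple h2 M hMnc
      refine hTnc ⟨⟨fun q q' => ?_⟩⟩
      obtain ⟨x, rfl⟩ := hπs q
      obtain ⟨y, rfl⟩ := hπs q'
      have hx : x ∈ center L ⊔ M := hsup ▸ mem_top x
      rw [← SetLike.mem_coe, mul_normal] at hx
      obtain ⟨z, hz, m, hm, rfl⟩ := Set.mem_mul.1 hx
      have hm' : π m = 1 := (QuotientGroup.eq_one_iff m).2 hm
      rw [map_mul π z, hm', mul_one, ← map_mul, ← map_mul, mem_center_iff.1 hz y]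
    -- the abelian case: the minimal normal subgroup is an elementary group for one prime
    have hcomm : ∀ a ∈ M, ∀ b ∈ M, a * b = b * a := fun a ha b hb =>
      (mem_centralizer_iff.1 (commutator_eq_bot_iff_le_centralizer.1 hab hb) a ha)
    obtain ⟨r, hr, hrd⟩ := Nat.exists_prime_and_dvd (n := Nat.card M)
      (fun e => hMb (Subgroup.eq_bot_of_card_eq _ e))
    haveI := Fact.mk hr
    let R : Subgroup L :=
      { carrier := {x | x ∈ M ∧ x ^ r = 1}
        one_mem' := ⟨one_mem _, one_pow _⟩
        mul_mem' := fun {a b} ha hb => ⟨mul_mem ha.1 hb.1, by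
          rw [(show Commute a b from hcomm a ha.1 b hb.1).mul_pow, ha.2, hb.2, one_mul]⟩
        inv_mem' := fun {a} ha => ⟨inv_mem ha.1, by rw [inv_pow, ha.2, inv_one]⟩ }
    have hRn : R.Normal := ⟨fun x hx g => ⟨hMn.conj_mem x hx.1 g, by rw [conj_pow, hx.2, mul_one, mul_inv_cancel]⟩⟩
    have hRM : R = M := by
      refine (hMmin R hRn fun x hx => hx.1).resolve_left fun e => ?_
      obtain ⟨⟨x, hx⟩, hxo⟩ := exists_prime_orderOf_dvd_card' (G := M) r hrd
      rw [Subgroup.orderOf_mk] at hxo
      have hxR : x ∈ R := ⟨hx, hxo ▸ pow_orderOf_eq_one x⟩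
      rw [e, Subgroup.mem_bot] at hxR
      rw [hxR, orderOf_one] at hxo
      exact hr.ne_one hxo.symm
    have hMr : IsPGroup r M := fun x => ⟨1, Subtype.ext (by
      rw [pow_one, SubmonoidClass.coe_pow]; exact (hRM.symm ▸ x.2 : (x : L) ∈ R).2)⟩
    -- it is central
    have hcentral : M ≤ center L := by
      by_contra hnz
      obtain ⟨q, hq1, hqr⟩ := exists_avoid hTnc hT2 hr
      obtain ⟨x, rfl⟩ := hπs q
      have hxr : r ∣ idx x := by
        refine dvd_trans ?_ (relIndex_dvd_index_of_normal' _ M)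
        obtain ⟨k, hk⟩ := hMr.index ((centralizer ({x} : Set L)).subgroupOf M)
        have hne : (centralizer ({x} : Set L)).relIndex M ≠ 1 := fun e => by
          have hxC : x ∈ centralizer (M : Set L) :=
            mem_centralizer_iff.2 fun m hm => mem_cent.1 (relIndex_eq_one.1 e hm)
          haveI : (centralizer (M : Set L)).Normal := normal_centralizer
          have hMC : M ≤ centralizer (M : Set L) := fun a ha =>
            mem_centralizer_iff.2 fun b hb => hcomm b hb a ha
          have htop : (centralizer (M : Set L)).map π = ⊤ := by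
            refine (((inferInstance : (centralizer (M : Set L)).Normal).map π hπs).eq_bot_or_eq_top).resolve_left
              fun e' => hq1 ?_
            have := mem_map_of_mem π hxC
            rwa [e', Subgroup.mem_bot] at this
          refine hnz fun m hm => mem_center_iff.2 fun g => ?_
          have hg : g ∈ centralizer (M : Set L) := by
            obtain ⟨c, hc, hcg⟩ : π g ∈ (centralizer (M : Set L)).map π := htop ▸ mem_top _
            have hm' : c⁻¹ * g ∈ M := QuotientGroup.eq.1 hcg
            simpa using mul_mem hc (hMC hm')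
          exact (mem_centralizer_iff.1 hg m hm).symm
        rw [relIndex] at hne ⊢
        rw [hk] at hne ⊢
        exact dvd_pow_self r fun e => hne (by rw [e, pow_zero])
      exact h2.absurd_three (two_le_card_primeFactors_idx hTnc hq1) (idx_map_dvd π hπs x) hr hxr hqr
    -- a Sylow subgroup containing it is abelian
    obtain ⟨P, hMP⟩ := hMr.exists_le_sylow
    have hker : π.ker ≤ (P : Subgroup L) := by rw [hπ, QuotientGroup.ker_mk']; exact hMP
    set Pb : Sylow r (L ⧸ M) := P.mapSurjective hπs with hPb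
    have hrT : ∀ {y : L}, y ∈ (P : Subgroup L) → y ∉ M → r ∣ Nat.card (L ⧸ M) := fun {y} hy hyM => by
      obtain ⟨k, hk⟩ := IsPGroup.iff_orderOf.1 Pb.2 ⟨π y, mem_map_of_mem π hy⟩
      rw [← Subgroup.orderOf_coe] at hk
      change orderOf (π y) = r ^ k at hk
      have hk0 : k ≠ 0 := fun e => hyM ((QuotientGroup.eq_one_iff y).1
        (orderOf_eq_one_iff.1 (by rw [e, pow_zero] at hk; exact hk)))
      exact ((dvd_pow_self r hk0).trans (dvd_of_eq hk.symm)).trans (orderOf_dvd_natCard _)
    have hPab : ∀ x ∈ (P : Subgroup L), ∀ y ∈ (P : Subgroup L), y * x = x * y := by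
      intro x hx y hy
      by_cases hxM : x ∈ M
      · exact mem_center_iff.1 (hcentral hxM) y
      have hq1 : π x ≠ 1 := fun e => hxM ((QuotientGroup.eq_one_iff x).1 e)
      have hPbab := sylow_comm hTnc hT2 r hr (hrT hx hxM) Pb
      have hqmem : π x ∈ (Pb : Subgroup (L ⧸ M)) := mem_map_of_mem π hx
      have hqr := not_dvd_idx_of_mem Pb hPbab hqmem
      have hxr : ¬ r ∣ idx x := fun hd =>
        h2.absurd_three (two_le_card_primeFactors_idx hTnc hq1) (idx_map_dvd π hπs x) hr hd hqr
      obtain ⟨P', hP'⟩ := CfsgLib.KnownSimple51.Pronormal.exists_sylow_le_of_not_dvd_index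
        (H := centralizer ({x} : Set L)) hxr
      obtain ⟨k, hk⟩ := IsPGroup.iff_orderOf.1 Pb.2 ⟨π x, hqmem⟩
      rw [← Subgroup.orderOf_coe] at hk
      change orderOf (π x) = r ^ k at hk
      have hC := isPGroup_cent hTnc hT2 hq1 ⟨k, hk⟩ (hrT hx hxM) hqr
        fun q hq hqd _ => sylow_comm hTnc hT2 q hq hqd
      have hPbC : (Pb : Subgroup (L ⧸ M)) ≤ centralizer ({π x} : Set (L ⧸ M)) := fun z hz =>
        mem_cent.2 (congrArg Subtype.val (hPbab.is_comm.comm
          (⟨z, hz⟩ : (Pb : Subgroup (L ⧸ M))) ⟨π x, hqmem⟩))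
      have hCeq := Pb.3 hC hPbC
      have hle : (P' : Subgroup L) ≤ P := by
        intro z hz
        have hz' : π z ∈ (Pb : Subgroup (L ⧸ M)) := hCeq ▸ mem_cent.2
          (by rw [← map_mul, mem_cent.1 (hP' hz), map_mul])
        obtain ⟨w, hw, hwz⟩ := hz'
        have : w⁻¹ * z ∈ M := QuotientGroup.eq.1 hwz
        simpa using mul_mem hw (hMP this)
      have heq : (P : Subgroup L) = P' := P'.3 P.2 hle
      exact mem_cent.1 (hP' (heq ▸ hy))
    -- so it is trivial
    refine hMb ((Subgroup.eq_bot_iff_forall M).2 fun z hz => ?_)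
    have h1 := CfsgLib.Schur.center_commutator_sylow P (hcentral hz) (hperf ▸ mem_top z) (hMP hz)
    have h3 : ⁅(P : Subgroup L), (P : Subgroup L)⁆ = ⊥ := commutator_eq_bot_iff_le_centralizer.2
      fun a ha => mem_centralizer_iff.2 fun b hb => hPab a ha b hb
    rwa [h3, Subgroup.mem_bot] at h1

/-- The simple groups, named. -/
theorem iso_named {T : Type u} [Group T] [Finite T] [IsSimpleGroup T] (hnc : ¬ IsMulCommutative T)
    (h2 : TwoPrimes T) :
    Nonempty (T ≃* alternatingGroup (Fin 5)) ∨
      Nonempty (T ≃* Matrix.ProjectiveSpecialLinearGroup (Fin 2) (GaloisField 2 3)) := by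
  obtain ⟨F, iF, iF', hF, ⟨e⟩⟩ := simple_classify hnc h2
  rcases hF with h4 | h8
  · refine Or.inl (CfsgLib.Small.nonempty_mulEquiv_alternating_five ?_)
    rw [Nat.card_congr e.toEquiv, card_psl_two_pow (f := 2) (by rw [h4]; norm_num) two_ne_zero]
    norm_num
  · haveI : Fact (Nat.Prime 2) := ⟨Nat.prime_two⟩
    letI := Fintype.ofFinite (GaloisField 2 3)
    have hcard : Fintype.card (GaloisField 2 3) = 8 := by
      rw [← Nat.card_eq_fintype_card, GaloisField.card 2 3 three_ne_zero]; norm_num
    refine Or.inr (CfsgLib.Small.Order504.nonempty_mulEquiv_psl_eight ?_ hcard)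
    rw [Nat.card_congr e.toEquiv, card_psl_two_pow (f := 3) (by rw [h8]; norm_num) three_ne_zero]
    norm_num

/-- The structure theorem. -/
theorem solvable_or_split {G : Type u} [Group G] [Finite G] (h : TwoPrimes G) :
    Group.IsSolvable G ∨ ∃ S : Subgroup G, S.Normal ∧ center G ⊓ S = ⊥ ∧ center G ⊔ S = ⊤ ∧
      (Nonempty (S ≃* alternatingGroup (Fin 5)) ∨
        Nonempty (S ≃* Matrix.ProjectiveSpecialLinearGroup (Fin 2) (GaloisField 2 3))) := by
  obtain ⟨n, hn⟩ : ∃ n, derivedSeries G (n + 1) = derivedSeries G n := by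
    obtain ⟨a, b, hab, h⟩ := Finite.exists_ne_map_eq_of_infinite (derivedSeries G)
    wlog hlt : a < b generalizing a b
    · exact this b a hab.symm h.symm (lt_of_le_of_ne (not_lt.1 hlt) hab.symm)
    exact ⟨a, le_antisymm (derivedSeries_antitone G (Nat.le_succ a))
      (h.le.trans (derivedSeries_antitone G hlt))⟩
  set L := derivedSeries G n with hL
  haveI : L.Normal := derivedSeries_normal G n
  by_cases hbot : L = ⊥
  · exact Or.inl ⟨⟨n, hbot⟩⟩
  haveI : Nontrivial L := (Subgroup.nontrivial_iff_ne_bot L).2 hbot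
  have hperf : commutator L = ⊤ := by
    refine map_injective L.subtype_injective ?_
    rw [map_subtype_commutator, ← MonoidHom.range_eq_map, range_subtype, ← derivedSeries_succ]
    exact hn
  obtain ⟨hs, hnc⟩ := isSimpleGroup_of_perfect (Nat.card L) le_rfl inferInstance hperf (h.normal L)
  obtain ⟨h1, h2⟩ := split_of_normal_simple h L hnc
  exact Or.inr ⟨L, inferInstance, h1, h2, iso_named hnc (h.normal L)⟩

end CfsgLib.ClassPrimes
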