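import Cfsg.Agent.Lib.ClassPrimes.Idem

/-!
2-groups inside a simple group with a character of degree three: if no non-central element has a
non-trivial central power, the group is abelian.
-/

set_option autoImplicit false
set_option linter.style.haveILetI false
set_option linter.unusedSectionVars false

noncomputable section

namespace CfsgLib.ClassPrimes

open Subgroup Cfsg CfsgLib.Characters

universe u

variable {M : Type*} [Group M] [Finite M]

/-- No non-central element has a non-trivial central power. -/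
def PowerClosed (M : Type*) [Group M] : Prop :=
  ∀ (x : M) (k : ℕ), x ^ k ∈ center M → x ^ k ≠ 1 → x ∈ center M

theorem commute_of_sq_eq_one (h : ∀ a : M, a * a = 1) (a b : M) : a * b = b * a := by
  have hi : ∀ a : M, a⁻¹ = a := fun a => inv_eq_of_mul_eq_one_right (h a)
  rw [← hi (a * b), mul_inv_rev, hi a, hi b]

theorem two_dvd_orderOf (hM : IsPGroup 2 M) {x : M} (hx : x ≠ 1) : 2 ∣ orderOf x := by
  obtain ⟨k, hk⟩ := IsPGroup.iff_orderOf.1 hM x
  rcases Nat.eq_zero_or_pos k with rfl | hk0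
  · exact absurd (orderOf_eq_one_iff.1 (hk.trans (pow_zero 2))) hx
  · exact hk ▸ dvd_pow_self 2 hk0.ne'

/-- The involution in a cyclic 2-group. -/
theorem exists_half_pow (hM : IsPGroup 2 M) {x : M} (hx : x ≠ 1) :
    ∃ k : ℕ, x ^ k ≠ 1 ∧ x ^ k * x ^ k = 1 := by
  obtain ⟨c, hc⟩ := two_dvd_orderOf hM hx
  have hpos := orderOf_pos x
  refine ⟨c, fun e => ?_, ?_⟩
  · have := Nat.le_of_dvd (by omega) (orderOf_dvd_of_pow_eq_one e)
    omega
  · rw [← pow_add, ← two_mul, ← hc, pow_orderOf_eq_one]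

theorem exists_noncentral_involution (hM : IsPGroup 2 M) (hpc : PowerClosed M)
    (hnc : ¬ IsMulCommutative M) : ∃ k : M, k ∉ center M ∧ k * k = 1 := by
  obtain ⟨y, hy⟩ : ∃ y : M, y ∉ center M := by
    by_contra hcon
    push Not at hcon
    exact hnc ⟨⟨fun a b => mem_center_iff.1 (hcon b) a⟩⟩
  obtain ⟨k, hk1, hk2⟩ := exists_half_pow hM (x := y) fun e => hy (e ▸ one_mem _)
  exact ⟨y ^ k, fun hc => hy (hpc y k hc hk1), hk2⟩

theorem center_sq (hM : IsPGroup 2 M) (hpc : PowerClosed M) (hnc : ¬ IsMulCommutative M) {z : M}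
    (hz : z ∈ center M) : z * z = 1 := by
  by_contra hz2
  obtain ⟨k, hk, hkk⟩ := exists_noncentral_involution hM hpc hnc
  have he : (k * z) ^ 2 = z * z := by
    rw [(show Commute k z from mem_center_iff.1 hz k).mul_pow, pow_two, pow_two, hkk, one_mul]
  have h1 := hpc (k * z) 2 (he ▸ mul_mem hz hz) (he ▸ hz2)
  exact hk (by simpa using mul_mem h1 (inv_mem hz))

theorem sq_eq_one_of_sq_mem (hM : IsPGroup 2 M) (hpc : PowerClosed M) (hnc : ¬ IsMulCommutative M)
    {x : M} (h : x * x ∈ center M) : x * x = 1 := by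
  by_contra hx
  exact hx (center_sq hM hpc hnc (hpc x 2 (by rwa [pow_two]) (by rwa [pow_two])))

/-- The centre has index at least eight. -/
theorem eight_le_index_center (hM : IsPGroup 2 M) (hpc : PowerClosed M)
    (hnc : ¬ IsMulCommutative M) : 8 ≤ (center M).index := by
  haveI : Fact (Nat.Prime 2) := ⟨Nat.prime_two⟩
  obtain ⟨k, hk⟩ := hM.index (center M)
  rcases Nat.lt_or_ge k 3 with hk3 | hk3
  swap
  · rw [hk]
    calc 8 = 2 ^ 3 := by norm_num
      _ ≤ 2 ^ k := Nat.pow_le_pow_right (by norm_num) hk3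
  exfalso
  have hcard : Nat.card (M ⧸ center M) = 2 ^ k := by rw [← index_eq_card, hk]
  have hker : (QuotientGroup.mk' (center M)).ker ≤ center M := le_of_eq (QuotientGroup.ker_mk' _)
  have hcyc : ¬ IsCyclic (M ⧸ center M) := fun hc =>
    hnc ⟨⟨fun a b => haveI := hc; commutative_of_cyclic_center_quotient _ hker a b⟩⟩
  have hsq : ∀ x : M, x * x ∈ center M := by
    intro x
    have hd : orderOf (x : M ⧸ center M) ∣ 2 ^ k := hcard ▸ orderOf_dvd_natCard _
    have hne : orderOf (x : M ⧸ center M) ≠ 2 ^ k := fun e =>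
      hcyc (isCyclic_of_orderOf_eq_card _ (e.trans hcard.symm))
    obtain ⟨i, hi, hie⟩ := (Nat.dvd_prime_pow Nat.prime_two).1 hd
    have hi1 : i ≤ 1 := by
      by_contra h
      exact hne (by rw [hie]; congr 1; omega)
    have : (x : M ⧸ center M) ^ 2 = 1 := orderOf_dvd_iff_pow_eq_one.1
      (hie ▸ (pow_dvd_pow 2 hi1).trans (dvd_of_eq (pow_one 2)))
    rwa [← QuotientGroup.mk_pow, QuotientGroup.eq_one_iff, pow_two] at this
  exact hnc ⟨⟨commute_of_sq_eq_one fun a => sq_eq_one_of_sq_mem hM hpc hnc (hsq a)⟩⟩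

/-- Degree three leaves only abelian possibilities. -/
theorem comm_of_degree_three {T : Type u} [Group T] [Fintype T] [IsSimpleGroup T]
    (hperf : commutator T = ⊤) {χ : IrrCharacter T} (hne : χ ≠ principalIrr T)
    (h3 : (χ : T → ℂ) 1 = 3) (S : Subgroup T) (hS : IsPGroup 2 S) (hpc : PowerClosed S) :
    IsMulCommutative S := by
  by_contra hnc
  haveI : Fact (Nat.Prime 2) := ⟨Nat.prime_two⟩
  haveI : Nontrivial S := by
    by_contra h
    rw [not_nontrivial_iff_subsingleton] at h
    exact hnc ⟨⟨fun a b => Subsingleton.elim _ _⟩⟩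
  obtain ⟨⟨z, hz⟩, hz'⟩ := hS.center_nontrivial.exists_pair_ne
  obtain ⟨z, hz, hz1⟩ : ∃ z ∈ center S, z ≠ 1 := by
    obtain ⟨⟨w, hw⟩, hww⟩ := hz'
    by_cases e : z = 1
    · exact ⟨w, hw, fun e' => hww (Subtype.ext (e.trans e'.symm))⟩
    · exact ⟨z, hz, e⟩
  have hzz := center_sq hS hpc hnc hz
  have hzc : ∀ a : S, Commute a z := fun a => mem_center_iff.1 hz a
  -- the centre has order two
  have huniq : ∀ w ∈ center S, w = 1 ∨ w = z := by
    intro w hw
    by_contra hcon
    push Not at hcon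
    obtain ⟨k, hk, hkk⟩ := exists_noncentral_involution hS hpc hnc
    have hww := center_sq hS hpc hnc hw
    have hk1 : k ≠ 1 := fun e => hk (e ▸ one_mem _)
    have hcoe : ∀ {a b : S}, a ≠ b → (a : T) ≠ b := fun h e => h (Subtype.ext e)
    refine no_three_involutions hperf hne h3 (a := (k : T)) (b := (z : T)) (c := (w : T))
      (congrArg Subtype.val hkk) (congrArg Subtype.val hzz) (congrArg Subtype.val hww)
      ((hzc k).map S.subtype) ((show Commute k w from mem_center_iff.1 hw k).map S.subtype)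
      ((show Commute z w from mem_center_iff.1 hw z).map S.subtype) (hcoe hk1) (hcoe hz1)
      (hcoe hcon.1) ?_ ?_ ?_ ?_
    · exact hcoe (a := k * z) (b := 1) fun e => hk (eq_inv_of_mul_eq_one_left e ▸ inv_mem hz)
    · exact hcoe (a := k * w) (b := 1) fun e => hk (eq_inv_of_mul_eq_one_left e ▸ inv_mem hw)
    · refine hcoe (a := z * w) (b := 1) fun e => hcon.2 ?_
      rw [eq_inv_of_mul_eq_one_right e, inv_eq_of_mul_eq_one_right hzz]
    · refine hcoe (a := k * z * w) (b := 1) fun e => hk ?_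
      rw [mul_assoc] at e
      exact eq_inv_of_mul_eq_one_left e ▸ inv_mem (mul_mem hz hw)
  -- an involution in the second centre
  have hq : IsPGroup 2 (S ⧸ center S) := hS.to_quotient _
  haveI : Nontrivial (S ⧸ center S) := QuotientGroup.nontrivial_iff.2 fun e =>
    hnc ⟨⟨fun a b => mem_center_iff.1 (e ▸ mem_top b) a⟩⟩
  haveI := hq.center_nontrivial
  obtain ⟨k, hk⟩ := (hq.to_subgroup (center (S ⧸ center S))).exists_card_eq
  have hk0 : k ≠ 0 := fun e => by
    rw [e, pow_zero, Nat.card_eq_one_iff_unique] at hk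
    exact not_subsingleton _ hk.1
  obtain ⟨⟨q, hqc⟩, hqo⟩ := exists_prime_orderOf_dvd_card' (G := center (S ⧸ center S)) 2
    (hk ▸ dvd_pow_self 2 hk0)
  rw [Subgroup.orderOf_mk] at hqo
  obtain ⟨x, rfl⟩ := QuotientGroup.mk_surjective q
  have hxnc : x ∉ center S := fun hx => by
    rw [(QuotientGroup.eq_one_iff x).2 hx, orderOf_one] at hqo
    omega
  have hxx : x * x = 1 := by
    refine sq_eq_one_of_sq_mem hS hpc hnc ?_
    rw [← QuotientGroup.eq_one_iff, ← pow_two, QuotientGroup.mk_pow, ← hqo, pow_orderOf_eq_one]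
  have hcl : ∀ a : S, a * x * a⁻¹ = x ∨ a * x * a⁻¹ = z * x := by
    intro a
    have h1 : a * x * a⁻¹ * x⁻¹ ∈ center S := by
      rw [← QuotientGroup.eq_one_iff]
      simp only [QuotientGroup.mk_mul, QuotientGroup.mk_inv]
      rw [mem_center_iff.1 hqc (a : S ⧸ center S)]
      group
    rcases huniq _ h1 with e | e
    · exact Or.inl (mul_inv_eq_one.1 e)
    · exact Or.inr (mul_inv_eq_iff_eq_mul.1 e)
  have hMc : ∀ a b : S, Commute a x → Commute b x → Commute a b := by
    intro a b ha hb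
    have hx1 : (x : T) ≠ 1 := fun e => hxnc ((Subtype.ext e : x = 1) ▸ one_mem _)
    have hxz : (x : T) * z ≠ 1 := fun e =>
      hxnc (eq_inv_of_mul_eq_one_left (show x * z = 1 from Subtype.ext e) ▸ inv_mem hz)
    have := commute_of_fours hperf hne h3 (congrArg Subtype.val hxx) (congrArg Subtype.val hzz)
      ((hzc x).map S.subtype) hx1 (fun e => hz1 (Subtype.ext e)) hxz
      (ha.map S.subtype) ((hzc a).map S.subtype) (hb.map S.subtype) ((hzc b).map S.subtype)
    exact Subtype.ext this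
  -- the elements outside the centraliser of `x` square to one
  have hmov : ∀ a : S, ¬ Commute a x → a * x * a⁻¹ = z * x := fun a ha =>
    (hcl a).resolve_left fun e => ha (mul_inv_eq_iff_eq_mul.1 e)
  have hout : ∀ a : S, ¬ Commute a x → a * a = 1 := by
    intro g hg
    have hg' := hmov g hg
    have hg2 : Commute (g * g) x := mul_inv_eq_iff_eq_mul.1 <| by
      calc g * g * x * (g * g)⁻¹ = g * (g * x * g⁻¹) * g⁻¹ := by group
        _ = g * (z * x) * g⁻¹ := by rw [hg']
        _ = z * (g * x * g⁻¹) := by rw [← mul_assoc g, (hzc g).eq]; group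
        _ = x := by rw [hg', ← mul_assoc, hzz, one_mul]
    refine sq_eq_one_of_sq_mem hS hpc hnc (mem_center_iff.2 fun b => ?_)
    by_cases hb : Commute b x
    · exact hMc _ _ hb hg2
    · have hb' := hmov b hb
      have hbg : Commute (g⁻¹ * b) x := mul_inv_eq_iff_eq_mul.1 <| by
        calc g⁻¹ * b * x * (g⁻¹ * b)⁻¹ = g⁻¹ * (b * x * b⁻¹) * g := by group
          _ = g⁻¹ * (g * x * g⁻¹) * g := by rw [hb', hg']
          _ = x := by group
      calc b * (g * g) = g * ((g⁻¹ * b) * (g * g)) := by group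
        _ = g * ((g * g) * (g⁻¹ * b)) := by rw [(hMc _ _ hbg hg2).eq]
        _ = g * g * b := by group
  refine hnc ⟨⟨commute_of_sq_eq_one fun m => ?_⟩⟩
  by_cases hm : Commute m x
  swap
  · exact hout m hm
  by_contra hmm
  obtain ⟨g, hg⟩ : ∃ g : S, ¬ Commute g x := by
    by_contra hcon
    push Not at hcon
    exact hxnc (mem_center_iff.2 fun a => hcon a)
  have hgg := hout g hg
  have hgm : ¬ Commute (g * m) x := fun h => hg (by
    have := h.mul_left hm.inv_left
    rwa [mul_inv_cancel_right] at this)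
  have hinv : g * m * g = m⁻¹ := eq_inv_of_mul_eq_one_left (by rw [mul_assoc]; exact hout _ hgm)
  obtain ⟨k, hk1, hk2⟩ := exists_half_pow hS (x := m) fun e => hmm (by rw [e, one_mul])
  have hgi : g⁻¹ = g := inv_eq_of_mul_eq_one_right hgg
  have hgt : Commute g (m ^ k) := by
    refine mul_inv_eq_iff_eq_mul.1 ?_
    rw [← conj_pow, hgi, hinv, inv_pow, inv_eq_of_mul_eq_one_right hk2]
  have hcent : m ^ k ∈ center S := mem_center_iff.2 fun b => by
    by_cases hb : Commute b x
    · exact hMc _ _ hb (hm.pow_left k)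
    · have hbg : Commute (g⁻¹ * b) x := mul_inv_eq_iff_eq_mul.1 <| by
        calc g⁻¹ * b * x * (g⁻¹ * b)⁻¹ = g⁻¹ * (b * x * b⁻¹) * g := by group
          _ = g⁻¹ * (g * x * g⁻¹) * g := by rw [hmov b hb, hmov g hg]
          _ = x := by group
      calc b * m ^ k = g * ((g⁻¹ * b) * m ^ k) := by group
        _ = g * (m ^ k * (g⁻¹ * b)) := by rw [(hMc _ _ hbg (hm.pow_left k)).eq]
        _ = g * m ^ k * g⁻¹ * b := by group
        _ = m ^ k * b := by rw [hgt.eq]; group
  exact hmm (center_sq hS hpc hnc (hpc m k hcent hk1))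

end CfsgLib.ClassPrimes
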