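import Cfsg.Agent.Lib.ClassPrimes.TwoPrimesTypes
import Cfsg.Agent.Lib.ClassPrimes.TwoPrimesTwo
import Cfsg.Agent.Lib.ClassPrimes.PairDegree
import Cfsg.Agent.Lib.Maximal.CASimple
import Cfsg.Agent.Lib.EPPO21.Torus
import Cfsg.Agent.Lib.PSL2.Basic

/-!
Simple groups in which every class size has at most two prime divisors are `PSL(2, 4)` and `PSL(2, 8)`.
-/

set_option autoImplicit false
set_option linter.style.haveILetI false
set_option linter.unusedSectionVars false

namespace CfsgLib.ClassPrimes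

open Subgroup CfsgLib.ClassGraph

universe u

section Automizer

variable {G : Type*} [Group G] [Finite G] {p : ℕ} [Fact p.Prime]

theorem two_le_relIndex (P : Sylow p G) (h : ¬ Good G p) :
    2 ≤ (centralizer ((P : Subgroup G) : Set G)).relIndex (normalizer ((P : Subgroup G) : Set G)) := by
  have h1 : (centralizer ((P : Subgroup G) : Set G)).relIndex (normalizer ((P : Subgroup G) : Set G)) ≠ 1 :=
    fun e => h ⟨P, relIndex_eq_one.mp e⟩
  have h0 : (centralizer ((P : Subgroup G) : Set G)).relIndex (normalizer ((P : Subgroup G) : Set G)) ≠ 0 :=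
    Subgroup.index_ne_zero_of_finite
  omega

theorem not_dvd_relIndex (P : Sylow p G) (hab : IsMulCommutative (P : Subgroup G)) :
    ¬ p ∣ (centralizer ((P : Subgroup G) : Set G)).relIndex (normalizer ((P : Subgroup G) : Set G)) := by
  intro hd
  refine P.not_dvd_index (hd.trans ?_)
  refine (relIndex_dvd_of_le_left _ ?_).trans (relIndex_dvd_index_of_le le_normalizer)
  exact fun x hx => mem_centralizer_iff.2 fun y hy =>
    congrArg Subtype.val (hab.is_comm.comm (⟨y, hy⟩ : (P : Subgroup G)) ⟨x, hx⟩)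

omit [Fact p.Prime] in
theorem index_center_le (P : Subgroup G) :
    (center P).index ≤ (centralizer (P : Set G)).relIndex (normalizer (P : Set G)) := by
  have h : center P = (centralizer (P : Set G)).subgroupOf P := by
    ext x
    rw [mem_center_iff, mem_subgroupOf, mem_centralizer_iff]
    exact ⟨fun h y hy => congrArg Subtype.val (h ⟨y, hy⟩), fun h y => Subtype.ext (h y y.2)⟩
  rw [h]
  refine relIndex_le_of_le_right le_normalizer ?_
  exact Subgroup.index_ne_zero_of_finite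

theorem sq_le_relIndex (P : Sylow p G) (hab : ¬ IsMulCommutative (P : Subgroup G)) :
    p ^ 2 ≤ (centralizer ((P : Subgroup G) : Set G)).relIndex (normalizer ((P : Subgroup G) : Set G)) := by
  obtain ⟨k, hk⟩ := P.2.index (center (P : Subgroup G))
  refine le_trans ?_ ((le_of_eq hk.symm).trans (index_center_le (P : Subgroup G)))
  refine Nat.pow_le_pow_right (Fact.out : p.Prime).pos ?_
  by_contra hlt
  have hker : (QuotientGroup.mk' (center (P : Subgroup G))).ker ≤ center (P : Subgroup G) :=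
    le_of_eq (QuotientGroup.ker_mk' _)
  have hc : IsCyclic ((P : Subgroup G) ⧸ center (P : Subgroup G)) := by
    refine isCyclic_of_card_dvd_prime (p := p) ?_
    rw [← index_eq_card, hk]
    exact (pow_dvd_pow p (by omega : k ≤ 1)).trans (dvd_of_eq (pow_one p))
  exact hab ⟨⟨fun a b => haveI := hc; commutative_of_cyclic_center_quotient _ hker a b⟩⟩

end Automizer

variable {T : Type u} [Group T] [Finite T] [IsSimpleGroup T]
variable (hnc : ¬ IsMulCommutative T) (h2 : TwoPrimes T)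

include hnc h2

/-- The counting inequality for the three primes. -/
theorem count_lt {a b : ℕ} [Fact (Nat.Prime 2)] [Fact a.Prime] [Fact b.Prime]
    (hπ : ∀ p : ℕ, p.Prime → p ∣ Nat.card T → p = 2 ∨ p = a ∨ p = b)
    (S : Sylow 2 T) (A : Sylow a T) (B : Sylow b T) :
    Nat.card T <
      (normalizer ((S : Subgroup T) : Set T)).index * Nat.card (centralizer ((S : Subgroup T) : Set T)) +
      (normalizer ((A : Subgroup T) : Set T)).index * Nat.card (centralizer ((A : Subgroup T) : Set T)) +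
      (normalizer ((B : Subgroup T) : Set T)).index * Nat.card (centralizer ((B : Subgroup T) : Set T)) := by
  have hsub : (Set.univ : Set T) ⊆ (covered (S : Subgroup T) \ {1}) ∪ (covered (A : Subgroup T) \ {1}) ∪
      (covered (B : Subgroup T) \ {1}) ∪ {1} := by
    intro x _
    by_cases hx : x = 1
    · exact Or.inr hx
    obtain ⟨p, ⟨hp, hpd, hnd⟩, -⟩ := exists_type hnc h2 hx
    rcases hπ p hp hpd with rfl | rfl | rfl
    · exact Or.inl (Or.inl (Or.inl ⟨exists_conj_mem_cent S hnd, hx⟩))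
    · exact Or.inl (Or.inl (Or.inr ⟨exists_conj_mem_cent A hnd, hx⟩))
    · exact Or.inl (Or.inr ⟨exists_conj_mem_cent B hnd, hx⟩)
  have h1 := (Set.ncard_le_ncard hsub).trans ((Set.ncard_union_le _ _).trans (Nat.add_le_add_right
    ((Set.ncard_union_le _ _).trans (Nat.add_le_add_right (Set.ncard_union_le _ _) _)) _))
  rw [Set.ncard_univ, Set.ncard_singleton] at h1
  have hS := ncard_covered_le (S : Subgroup T)
  have hA := ncard_covered_le (A : Subgroup T)
  have hB := ncard_covered_le (B : Subgroup T)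
  have : ∀ H : Subgroup T, 0 < H.index := fun H => Nat.pos_of_ne_zero index_ne_zero_of_finite
  have := this (normalizer ((S : Subgroup T) : Set T))
  have := ‹∀ H : Subgroup T, 0 < H.index› (normalizer ((A : Subgroup T) : Set T))
  omega

omit hnc h2 [IsSimpleGroup T] in
theorem mul_le_of_le (P : Subgroup T) {k : ℕ}
    (h : k ≤ (centralizer (P : Set T)).relIndex (normalizer (P : Set T))) :
    k * ((normalizer (P : Set T)).index * Nat.card (centralizer (P : Set T))) ≤ Nat.card T :=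
  (Nat.mul_le_mul_right _ h).trans (relIndex_mul_index_mul P).le

/-- No element outside the centre of a Sylow 2-subgroup has a non-trivial central power. -/
theorem powerClosed_two [Fact (Nat.Prime 2)]
    (hab : ∀ q : ℕ, q.Prime → q ∣ Nat.card T → q ≠ 2 →
      ∀ Q : Sylow q T, IsMulCommutative (Q : Subgroup T))
    (S : Sylow 2 T) : PowerClosed (S : Subgroup T) := by
  intro x k hc h1
  set w : T := ((x ^ k : (S : Subgroup T)) : T) with hw
  have hw1 : w ≠ 1 := fun e => h1 (Subtype.ext e)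
  have hwS : (S : Subgroup T) ≤ centralizer ({w} : Set T) := fun y hy =>
    mem_cent.2 (congrArg Subtype.val (mem_center_iff.1 hc ⟨y, hy⟩))
  have hwp : ∃ n, orderOf w = 2 ^ n := by
    obtain ⟨n, hn⟩ := IsPGroup.iff_orderOf.1 S.2 (x ^ k)
    exact ⟨n, by rw [hw, Subgroup.orderOf_coe, hn]⟩
  have hw2 : IsPGroup 2 (centralizer ({w} : Set T)) :=
    isPGroup_cent hnc h2 hw1 hwp (two_dvd_card hnc) (not_dvd_idx_of_sylow_le S hwS) hab
  have hCw : centralizer ({w} : Set T) = (S : Subgroup T) := S.3 hw2 hwS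
  have hle : centralizer ({(x : T)} : Set T) ≤ (S : Subgroup T) := fun c hc' =>
    hCw ▸ mem_cent.2 ((show Commute c (x : T) from mem_cent.1 hc').pow_right k).eq
  have hx1 : (x : T) ≠ 1 := fun e => h1 (by rw [show x = 1 from Subtype.ext e, one_pow])
  obtain ⟨p, ⟨hp, hpd, hnd⟩, -⟩ := exists_type hnc h2 hx1
  haveI := Fact.mk hp
  obtain ⟨P, hP⟩ := CfsgLib.KnownSimple51.Pronormal.exists_sylow_le_of_not_dvd_index
    (H := centralizer ({(x : T)} : Set T)) hnd
  have hp2 : p = 2 := by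
    obtain ⟨i, hi⟩ := S.2.exists_card_eq
    have := ((dvd_card_of_dvd_card P hpd).trans (card_dvd_of_le (hP.trans hle)))
    rw [hi] at this
    exact (Nat.prime_dvd_prime_iff_eq hp Nat.prime_two).1 (hp.dvd_of_dvd_pow this)
  subst hp2
  have hPS : (S : Subgroup T) = P := P.3 S.2 (hP.trans hle)
  refine mem_center_iff.2 fun y => Subtype.ext (mem_cent.1 (hP (hPS ▸ y.2)))
where
  dvd_card_of_dvd_card {p : ℕ} [Fact p.Prime] (P : Sylow p T) (h : p ∣ Nat.card T) :
      p ∣ Nat.card (P : Subgroup T) := P.dvd_card_of_dvd_card h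

theorem exists_sylow_eq_cent {p : ℕ} [Fact p.Prime] {x : T} (hp : IsPGroup p (centralizer ({x} : Set T)))
    (hty : ¬ p ∣ idx x) : ∃ P : Sylow p T, centralizer ({x} : Set T) = (P : Subgroup T) := by
  obtain ⟨P, hP⟩ := CfsgLib.KnownSimple51.Pronormal.exists_sylow_le_of_not_dvd_index
    (H := centralizer ({x} : Set T)) hty
  exact ⟨P, P.3 hp hP⟩

theorem odd_sylow_comm {a b : ℕ} [Fact a.Prime] [Fact b.Prime] (ha2 : a ≠ 2)
    (hda : a ∣ Nat.card T) (hdb : b ∣ Nat.card T)
    (hπ : ∀ p : ℕ, p.Prime → p ∣ Nat.card T → p = 2 ∨ p = a ∨ p = b)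
    (A : Sylow a T) : IsMulCommutative (A : Subgroup T) := by
  haveI : Fact (Nat.Prime 2) := ⟨Nat.prime_two⟩
  by_contra hab
  let S : Sylow 2 T := default
  let B : Sylow b T := default
  have ha3 : 3 ≤ a := by have := (Fact.out : a.Prime).two_le; omega
  have e1 : 9 ≤ a ^ 2 := le_trans (by norm_num) (Nat.pow_le_pow_left ha3 2)
  have hS : 3 ≤ (centralizer ((S : Subgroup T) : Set T)).relIndex
      (normalizer ((S : Subgroup T) : Set T)) := by
    by_cases hS : IsMulCommutative (S : Subgroup T)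
    · have h3 := not_dvd_relIndex S hS
      have h4 := two_le_relIndex S (not_good hnc Nat.prime_two (two_dvd_card hnc))
      omega
    · exact le_trans (by norm_num) (sq_le_relIndex S hS)
  have k1 := mul_le_of_le (S : Subgroup T) hS
  have k2 := mul_le_of_le (A : Subgroup T) (e1.trans (sq_le_relIndex A hab))
  have k3 := mul_le_of_le (B : Subgroup T) (two_le_relIndex B (not_good hnc Fact.out hdb))
  have := count_lt hnc h2 hπ S A B
  omega

theorem inverted_of {a : ℕ} [Fact a.Prime] (ha2 : a ≠ 2) (A : Sylow a T)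
    (hab : IsMulCommutative (A : Subgroup T))
    (he : (centralizer ((A : Subgroup T) : Set T)).relIndex (normalizer ((A : Subgroup T) : Set T)) = 2) :
    ∃ n, CfsgLib.SmithTyrer.Inverted A n := by
  have hidx : ((centralizer ((A : Subgroup T) : Set T)).subgroupOf
      (normalizer ((A : Subgroup T) : Set T))).index = 2 := he
  obtain ⟨n, hn, hnC⟩ : ∃ n ∈ normalizer ((A : Subgroup T) : Set T),
      n ∉ centralizer ((A : Subgroup T) : Set T) := by
    by_contra hcon
    push Not at hcon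
    rw [relIndex_eq_one.mpr hcon] at he
    omega
  refine ⟨n, hab, ha2, fun x hx => CfsgLib.Small.conj_eq_inv_of_relIndex_two hnc A hab he hn hnC hx,
    fun g hg => ?_⟩
  by_cases hgC : g ∈ centralizer ((A : Subgroup T) : Set T)
  · exact Or.inl hgC
  · refine Or.inr ?_
    have h := (mul_mem_iff_of_index_two hidx
      (a := (⟨n, hn⟩ : normalizer ((A : Subgroup T) : Set T))⁻¹) (b := ⟨g, hg⟩)).mpr
      (by rw [inv_mem_iff]; simp only [mem_subgroupOf]; tauto)
    exact mem_subgroupOf.mp h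

/-- Elements of 2-power order are not attached to `a`. -/
theorem dvd_idx_two_elem [Fintype T] {a b : ℕ} [Fact a.Prime] [Fact b.Prime] (ha2 : a ≠ 2)
    (hb2 : b ≠ 2) (hπ : ∀ p : ℕ, p.Prime → p ∣ Nat.card T → p = 2 ∨ p = a ∨ p = b)
    {A : Sylow a T} {B : Sylow b T} {n m : T} (hA : CfsgLib.SmithTyrer.Inverted A n)
    (hB : CfsgLib.SmithTyrer.Inverted B m) (hA5 : 5 ≤ Nat.card (A : Subgroup T))
    (hB5 : 5 ≤ Nat.card (B : Subgroup T)) {y : T} (hy : y ≠ 1) (hy2 : ∃ k, orderOf y = 2 ^ k) :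
    a ∣ idx y := by
  have hperf := CfsgLib.Small.commutator_eq_top hnc
  obtain ⟨χ, Q, j, hne, hQ, hQb, -, hQd, -, hinv⟩ := exists_pair_degree hperf (b := b) ha2 hπ hA hA5
  obtain ⟨-, Q', j', -, -, hQb', -, hQd', hle', -⟩ := exists_pair_degree hperf (b := a) hb2
    (fun p hp hd => (hπ p hp hd).imp_right Or.symm) hB hB5
  have hQle : Q ≤ Nat.card (B : Subgroup T) :=
    Nat.le_of_dvd Nat.card_pos (hQb ▸ B.pow_dvd_card_of_pow_dvd_card (hQb ▸ hQd))
  have hQle' : Q' ≤ Nat.card (A : Subgroup T) :=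
    Nat.le_of_dvd Nat.card_pos (hQb' ▸ A.pow_dvd_card_of_pow_dvd_card (hQb' ▸ hQd'))
  by_contra hnd
  obtain ⟨g, hg⟩ := exists_conj_mem_cent A hnd
  obtain ⟨k, hk⟩ := hy2
  have hy' : orderOf (g * y * g⁻¹) = 2 ^ k := by
    rw [← MulAut.conj_apply, MulEquiv.orderOf_eq, hk]
  have hk0 : k ≠ 0 := fun e => hy (orderOf_eq_one_iff.1 (by rw [hk, e, pow_zero]))
  set d := (g * y * g⁻¹) ^ 2 ^ (k - 1) with hd
  have hdo : orderOf d = 2 := by
    rw [hd, orderOf_pow_of_dvd (pow_ne_zero _ two_ne_zero) (hy' ▸ pow_dvd_pow 2 (Nat.sub_le k 1)),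
      hy', Nat.pow_div (Nat.sub_le k 1) two_pos, show k - (k - 1) = 1 by omega, pow_one]
  have hdc : ∀ z ∈ (A : Subgroup T), Commute z d := fun z hz =>
    mem_centralizer_iff.1 (pow_mem hg _ : d ∈ centralizer ((A : Subgroup T) : Set T)) z hz
  obtain ⟨i, hi⟩ := A.2.exists_card_eq
  refine no_involution hperf hne (hi ▸ ((Fact.out : a.Prime).odd_of_ne_two ha2).pow) hdo hdc
    (fun z hz hz1 => hinv z hz hz1 d (hdc z hz) ?_) hQ (by omega)
  rw [hdo]
  exact fun h => ha2 ((Nat.prime_dvd_prime_iff_eq Fact.out Nat.prime_two).1 h)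

/-- The Sylow 2-subgroups are abelian. -/
theorem two_sylow_comm [Fintype T] {a b : ℕ} [Fact (Nat.Prime 2)] [Fact a.Prime] [Fact b.Prime]
    (hab' : a ≠ b) (ha2 : a ≠ 2) (hb2 : b ≠ 2) (hda : a ∣ Nat.card T) (hdb : b ∣ Nat.card T)
    (hπ : ∀ p : ℕ, p.Prime → p ∣ Nat.card T → p = 2 ∨ p = a ∨ p = b) (S : Sylow 2 T) :
    IsMulCommutative (S : Subgroup T) := by
  by_contra hS
  have hperf := CfsgLib.Small.commutator_eq_top hnc
  have hπ' : ∀ p : ℕ, p.Prime → p ∣ Nat.card T → p = 2 ∨ p = b ∨ p = a :=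
    fun p hp hd => (hπ p hp hd).imp_right Or.symm
  have hA' := odd_sylow_comm hnc h2 (a := a) (b := b) ha2 hda hdb hπ
  have hB' := odd_sylow_comm hnc h2 (a := b) (b := a) hb2 hdb hda hπ'
  have hab : ∀ q : ℕ, q.Prime → q ∣ Nat.card T → q ≠ 2 →
      ∀ Q : Sylow q T, IsMulCommutative (Q : Subgroup T) := by
    intro q hq hqd hq2
    rcases hπ q hq hqd with rfl | rfl | rfl
    · exact absurd rfl hq2
    · exact hA'
    · exact hB'
  have hpc := powerClosed_two hnc h2 hab
  let A : Sylow a T := default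
  let B : Sylow b T := default
  have h8 := (eight_le_index_center S.2 (hpc S) hS).trans (index_center_le (S : Subgroup T))
  have hlt := count_lt hnc h2 hπ S A B
  have k1 := mul_le_of_le (S : Subgroup T) h8
  have geA := two_le_relIndex A (not_good hnc Fact.out hda)
  have geB := two_le_relIndex B (not_good hnc Fact.out hdb)
  have eA : (centralizer ((A : Subgroup T) : Set T)).relIndex (normalizer ((A : Subgroup T) : Set T)) = 2 := by
    by_contra hne
    have k2 := mul_le_of_le (k := 3) (A : Subgroup T) (by omega)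
    have k3 := mul_le_of_le (B : Subgroup T) geB
    omega
  have eB : (centralizer ((B : Subgroup T) : Set T)).relIndex (normalizer ((B : Subgroup T) : Set T)) = 2 := by
    by_contra hne
    have k2 := mul_le_of_le (A : Subgroup T) geA
    have k3 := mul_le_of_le (k := 3) (B : Subgroup T) (by omega)
    omega
  obtain ⟨n, hA⟩ := inverted_of hnc h2 ha2 A (hA' A) eA
  obtain ⟨m, hB⟩ := inverted_of hnc h2 hb2 B (hB' B) eB
  have small : ∀ {q : ℕ} [Fact q.Prime] (Q : Sylow q T), q ≠ 2 → q ∣ Nat.card T →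
      Nat.card (Q : Subgroup T) < 5 → q = 3 ∧ Nat.card (Q : Subgroup T) = 3 := by
    intro q _ Q hq2 hqd hlt5
    have hq := (Fact.out : q.Prime)
    have h1 := Nat.le_of_dvd Nat.card_pos (Q.dvd_card_of_dvd_card hqd)
    have hq3 : q = 3 := by
      have := hq.two_le
      rcases (by omega : q = 3 ∨ q = 4) with h | h
      · exact h
      · exact absurd (h ▸ hq) (by norm_num)
    refine ⟨hq3, ?_⟩
    obtain ⟨c, hc⟩ := Q.dvd_card_of_dvd_card hqd
    have hc3 : Nat.card (Q : Subgroup T) = 3 * c := hc.trans (by rw [hq3])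
    have : 0 < Nat.card (Q : Subgroup T) := Nat.card_pos
    omega
  -- a degree three character is fatal
  have deg3 : ∀ {q r : ℕ} [Fact q.Prime] [Fact r.Prime] (Q : Sylow q T) (R : Sylow r T) {k : T},
      q ≠ 2 → r = 3 → Nat.card (R : Subgroup T) = 3 → 5 ≤ Nat.card (Q : Subgroup T) →
      CfsgLib.SmithTyrer.Inverted Q k →
      (∀ p : ℕ, p.Prime → p ∣ Nat.card T → p = 2 ∨ p = q ∨ p = r) → False := by
    intro q r _ _ Q R k hq2 hr hR hQ5 hQ hpi
    obtain ⟨χ, d, j, hne, hd, hdb', hj, hdd, -, -⟩ := exists_pair_degree hperf (b := r) hq2 hpi hQ hQ5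
    have hd3 : d = 3 := by
      have h3 : d ∣ 3 := hR ▸ hdb' ▸ R.pow_dvd_card_of_pow_dvd_card (hdb' ▸ hdd)
      rcases (Nat.dvd_prime Nat.prime_three).1 h3 with h | h
      · rw [hr, h] at hdb'
        exact absurd hdb'.symm (Nat.one_lt_pow hj.ne' (by norm_num)).ne'
      · exact h
    exact hS (comm_of_degree_three hperf hne (by rw [hd, hd3]; norm_num) S S.2 (hpc S))
  by_cases hA5 : 5 ≤ Nat.card (A : Subgroup T)
  swap
  · obtain ⟨rfl, hA3⟩ := small A ha2 hda (by omega)
    refine deg3 B A hb2 rfl hA3 ?_ hB hπ'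
    by_contra hB5
    exact hab' (small B hb2 hdb (by omega)).1.symm
  by_cases hB5 : 5 ≤ Nat.card (B : Subgroup T)
  swap
  · obtain ⟨rfl, hB3⟩ := small B hb2 hdb (by omega)
    exact deg3 A B ha2 rfl hB3 hA5 hA hπ
  -- every element of 2-power order lies in the centre of a Sylow subgroup
  refine hS ⟨⟨commute_of_sq_eq_one fun y => ?_⟩⟩
  by_cases hy : y = 1
  · rw [hy, one_mul]
  have hy1 : (y : T) ≠ 1 := fun e => hy (Subtype.ext e)
  have hy2 : ∃ k, orderOf (y : T) = 2 ^ k := by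
    obtain ⟨k, hk⟩ := IsPGroup.iff_orderOf.1 S.2 y
    exact ⟨k, by rw [Subgroup.orderOf_coe, hk]⟩
  obtain ⟨p, ⟨hp, hpd, hnd⟩, -⟩ := exists_type hnc h2 hy1
  rcases hπ p hp hpd with rfl | rfl | rfl
  · have hC := isPGroup_cent hnc h2 hy1 hy2 hpd hnd hab
    obtain ⟨R, hR⟩ := exists_sylow_eq_cent hnc h2 hC hnd
    have hyR : (y : T) ∈ (R : Subgroup T) := hR ▸ mem_cent.2 rfl
    have hyc : (⟨y, hyR⟩ : (R : Subgroup T)) ∈ center (R : Subgroup T) :=
      mem_center_iff.2 fun z => Subtype.ext (mem_cent.1 (hR.symm ▸ z.2))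
    have hRnc : ¬ IsMulCommutative (R : Subgroup T) := fun h => hS (sylow_comm_all R h S)
    exact Subtype.ext (congrArg Subtype.val (center_sq R.2 (hpc R) hRnc hyc) :)
  · exact absurd (dvd_idx_two_elem hnc h2 ha2 hb2 hπ hA hB hA5 hB5 hy1 hy2) hnd
  · exact absurd (dvd_idx_two_elem hnc h2 hb2 ha2 hπ' hB hA hB5 hA5 hy1 hy2) hnd

theorem sylow_comm : ∀ p : ℕ, p.Prime → p ∣ Nat.card T →
    ∀ Q : Sylow p T, IsMulCommutative (Q : Subgroup T) := by
  classical
  letI := Fintype.ofFinite T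
  haveI : Fact (Nat.Prime 2) := ⟨Nat.prime_two⟩
  have htwo : 2 ∈ (Nat.card T).primeFactors :=
    Nat.mem_primeFactors.2 ⟨Nat.prime_two, two_dvd_card hnc, Nat.card_pos.ne'⟩
  have hc := card_primeFactors hnc h2
  obtain ⟨a, b, hab, he⟩ := Finset.card_eq_two.1
    (show ((Nat.card T).primeFactors.erase 2).card = 2 by rw [Finset.card_erase_of_mem htwo, hc])
  have hmem : ∀ q, q ∈ ({a, b} : Finset ℕ) ↔ q ≠ 2 ∧ q.Prime ∧ q ∣ Nat.card T := by
    intro q
    rw [← he, Finset.mem_erase, Nat.mem_primeFactors]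
    simp [Nat.card_pos.ne']
  obtain ⟨ha2, hap, had⟩ := (hmem a).1 (by simp)
  obtain ⟨hb2, hbp, hbd⟩ := (hmem b).1 (by simp)
  haveI := Fact.mk hap
  haveI := Fact.mk hbp
  have hπ : ∀ p : ℕ, p.Prime → p ∣ Nat.card T → p = 2 ∨ p = a ∨ p = b := by
    intro p hp hd
    by_cases h : p = 2
    · exact Or.inl h
    · exact Or.inr (by simpa using (hmem p).2 ⟨h, hp, hd⟩)
  intro p hp hd
  rcases hπ p hp hd with rfl | rfl | rfl
  · exact two_sylow_comm hnc h2 hab ha2 hb2 had hbd hπ
  · exact odd_sylow_comm hnc h2 ha2 had hbd hπ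
  · exact odd_sylow_comm hnc h2 hb2 hbd had fun q hq hd => (hπ q hq hd).imp_right Or.symm

theorem ca : CfsgLib.CASimple.CA T := by
  intro x hx c hc d hd
  obtain ⟨p, hp, hpd⟩ := Nat.exists_prime_and_dvd (n := orderOf x) (mt orderOf_eq_one_iff.1 hx)
  haveI := Fact.mk hp
  have hpT : p ∣ Nat.card T := hpd.trans (orderOf_dvd_natCard x)
  set y := x ^ (orderOf x / p) with hy
  have hyo : orderOf y = p := by
    rw [hy, orderOf_pow_orderOf_div (orderOf_pos x).ne' hpd]
  have hy1 : y ≠ 1 := fun e => by rw [e, orderOf_one] at hyo; exact hp.ne_one hyo.symm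
  have hle : centralizer ({x} : Set T) ≤ centralizer ({y} : Set T) := fun z hz =>
    mem_cent.2 ((show Commute z x from mem_cent.1 hz).pow_right _).eq
  obtain ⟨Q, hQ⟩ := (IsPGroup.of_card (n := 1) (by rw [Nat.card_zpowers, hyo, pow_one]) :
    IsPGroup p (zpowers y)).exists_le_sylow
  have hty := not_dvd_idx_of_mem Q (sylow_comm hnc h2 p hp hpT Q) (hQ (mem_zpowers y))
  have hC := isPGroup_cent hnc h2 hy1 ⟨1, by rw [hyo, pow_one]⟩ hpT hty
    fun q hq hqd _ => sylow_comm hnc h2 q hq hqd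
  obtain ⟨R, hR⟩ := exists_sylow_eq_cent hnc h2 hC hty
  exact congrArg Subtype.val ((sylow_comm hnc h2 p hp hpT R).is_comm.comm
    (⟨c, hR ▸ hle hc⟩ : (R : Subgroup T)) ⟨d, hR ▸ hle hd⟩)

/-- The classification of the simple groups. -/
theorem simple_classify :
    ∃ (F : Type) (_ : Field F) (_ : Fintype F), (Fintype.card F = 4 ∨ Fintype.card F = 8) ∧
      Nonempty (T ≃* Matrix.ProjectiveSpecialLinearGroup (Fin 2) F) := by
  classical
  obtain ⟨F, iF, iF', f, hf, hcard, ⟨e⟩⟩ := CfsgLib.CASimple.exists_psl_of_ca (ca hnc h2)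
    fun h => hnc ⟨⟨h⟩⟩
  refine ⟨F, iF, iF', ?_, ⟨e⟩⟩
  by_cases hf4 : f ≤ 3
  · interval_cases f
    · exact Or.inl hcard
    · exact Or.inr hcard
  exfalso
  have hev : Even (Fintype.card F) := by
    rw [hcard]; exact (Nat.even_pow' (by omega)).2 even_two
  have hq := CfsgLib.PSL2.card_psl (F := F)
  rw [CfsgLib.PSL2.gcd_eq_one hev, one_mul, ← Nat.card_congr e.toEquiv, hcard] at hq
  set q := 2 ^ f with hqdef
  have hq16 : 16 ≤ q := (show (16 : ℕ) = 2 ^ 4 by norm_num) ▸ Nat.pow_le_pow_right (by norm_num) (by omega)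
  have hq2 : 2 ∣ q := dvd_pow_self 2 (by omega)
  have hN : Nat.card T = q * ((q - 1) * (q + 1)) := by
    rw [hq]; ring
  have h3 : 3 ∣ q - 1 ∨ 3 ∣ q + 1 := by
    have h3q : ¬ 3 ∣ q := fun h => by
      have h32 : 3 ∣ 2 := Nat.prime_three.dvd_of_dvd_pow (n := f) h
      omega
    rcases (by omega : q % 3 = 1 ∨ q % 3 = 2) with hr | hr
    · exact Or.inl (by omega)
    · exact Or.inr (by omega)
  obtain ⟨m, m', hm, hm', h3m, hd, hco, hodd, hodd'⟩ : ∃ m m' : ℕ, 1 < m ∧ 1 < m' ∧ 3 ∣ m ∧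
      (m = q - 1 ∧ m' = q + 1 ∨ m = q + 1 ∧ m' = q - 1) ∧ m.Coprime m' ∧ ¬ 2 ∣ m ∧ ¬ 2 ∣ m' := by
    have hco : (q - 1).Coprime (q + 1) := Nat.coprime_of_dvd fun k hk h1 h1' => by
      have h22 : k ∣ (q + 1) - (q - 1) := Nat.dvd_sub h1' h1
      rw [show q + 1 - (q - 1) = 2 by omega] at h22
      have := (Nat.prime_dvd_prime_iff_eq hk Nat.prime_two).1 h22
      subst this
      omega
    rcases h3 with h | h
    · exact ⟨q - 1, q + 1, by omega, by omega, h, Or.inl ⟨rfl, rfl⟩, hco, by omega, by omega⟩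
    · exact ⟨q + 1, q - 1, by omega, by omega, h, Or.inr ⟨rfl, rfl⟩, hco.symm, by omega, by omega⟩
  have hmN : m ∣ Nat.card T ∧ m' ∣ Nat.card T := by
    rw [hN]
    rcases hd with ⟨rfl, rfl⟩ | ⟨rfl, rfl⟩
    · exact ⟨dvd_mul_of_dvd_right (dvd_mul_right _ _) _, dvd_mul_of_dvd_right (dvd_mul_left _ _) _⟩
    · exact ⟨dvd_mul_of_dvd_right (dvd_mul_left _ _) _, dvd_mul_of_dvd_right (dvd_mul_right _ _) _⟩
  obtain ⟨r, hr, hrd⟩ := Nat.exists_prime_and_dvd (n := m') (by omega)
  have hall : ∀ s : ℕ, s.Prime → s ∣ m → s = 3 := by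
    intro s hs hsm
    by_contra hne
    have hsub : ({2, 3, r, s} : Finset ℕ) ⊆ (Nat.card T).primeFactors := by
      intro t ht
      simp only [Finset.mem_insert, Finset.mem_singleton] at ht
      refine Nat.mem_primeFactors.2 ⟨?_, ?_, Nat.card_pos.ne'⟩ <;> rcases ht with rfl | rfl | rfl | rfl
      all_goals first
        | exact Nat.prime_two
        | exact Nat.prime_three
        | exact hr
        | exact hs
        | exact hN ▸ dvd_mul_of_dvd_left hq2 _
        | exact h3m.trans hmN.1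
        | exact hrd.trans hmN.2
        | exact hsm.trans hmN.1
    have hr2 : r ≠ 2 := fun e => hodd' (e ▸ hrd)
    have hs2 : s ≠ 2 := fun e => hodd (e ▸ hsm)
    have hr3 : r ≠ 3 := fun e => by
      have := Nat.dvd_gcd h3m (e ▸ hrd); rw [hco.gcd_eq_one] at this; omega
    have hrs : r ≠ s := fun e => by
      have := Nat.dvd_gcd hsm (e ▸ hrd); rw [hco.gcd_eq_one] at this
      exact hs.ne_one (Nat.dvd_one.1 this)
    have h4 := Finset.card_le_card hsub
    rw [Finset.card_insert_of_notMem, Finset.card_insert_of_notMem, Finset.card_pair hrs,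
      card_primeFactors hnc h2] at h4
    · omega
    · simp [hr3.symm, Ne.symm hne]
    · simp [hr2.symm, hs2.symm]
  have hpow := Nat.eq_prime_pow_of_unique_prime_dvd (n := m) (by omega) fun {s} hs hsm => hall s hs hsm
  obtain ⟨h1, h1'⟩ := CfsgLib.EPPO21.two_pow_ne_three_pow (k := f) (f := m.primeFactorsList.length) (by omega)
  rw [← hpow] at h1 h1'
  rcases hd with ⟨e1, -⟩ | ⟨e1, -⟩ <;> omega

end CfsgLib.ClassPrimes
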