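import Cfsg.Agent.Lib.ClassPrimes.Basic
import Cfsg.Agent.Lib.Characters.Burnside
import Cfsg.Agent.Lib.Small.Basic
import Cfsg.Agent.Lib.Small.AbelianFocal
import Cfsg.Agent.Lib.PF.OddOrder

/-!
Simple groups in which every class size has at most two prime divisors: the three primes and the
prime attached to each element.
-/

set_option autoImplicit false
set_option linter.style.haveILetI false
set_option linter.unusedSectionVars false

namespace CfsgLib.ClassPrimes

open Subgroup CfsgLib.ClassGraph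

universe u

/-- Every class size has at most two prime divisors. -/
def TwoPrimes (G : Type*) [Group G] : Prop := ∀ x : G, (idx x).primeFactors.card ≤ 2

variable {G : Type*} [Group G] [Finite G]

theorem idx_dvd_card (x : G) : idx x ∣ Nat.card G := index_dvd_card _

/-- Bound for the size of a centraliser of a Sylow subgroup by the automizer. -/
theorem relIndex_mul_index_mul (P : Subgroup G) :
    (centralizer (P : Set G)).relIndex (normalizer (P : Set G)) *
      ((normalizer (P : Set G)).index * Nat.card (centralizer (P : Set G))) = Nat.card G := by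
  have hm : (centralizer (P : Set G)).relIndex (normalizer (P : Set G)) *
      Nat.card (centralizer (P : Set G)) = Nat.card (normalizer (P : Set G)) := by
    rw [← relIndex_bot_left (centralizer (P : Set G)), ← relIndex_bot_left (normalizer (P : Set G)),
      mul_comm, relIndex_mul_relIndex _ _ _ bot_le (centralizer_le_normalizer _)]
  rw [mul_left_comm, hm, index_mul_card]

variable {T : Type u} [Group T] [Finite T] [IsSimpleGroup T]

variable (hnc : ¬ IsMulCommutative T) (h2 : TwoPrimes T)

include hnc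

theorem not_good {p : ℕ} (hp : p.Prime) (hd : p ∣ Nat.card T) : ¬ Good T p := by
  haveI := Fact.mk hp
  intro h
  refine h.not_dvd_commutator ?_
  rwa [CfsgLib.Small.commutator_eq_top hnc, Subgroup.card_top]

theorem two_dvd_card : 2 ∣ Nat.card T := by
  by_contra h2
  have hs := CfsgLib.PF.oddSolvable T (Nat.odd_iff.2 (Nat.two_dvd_ne_zero.1 h2))
  exact hnc ⟨⟨fun a b => IsSimpleGroup.comm_iff_isSolvable.2 hs a b⟩⟩

theorem two_le_card_primeFactors_idx {x : T} (hx : x ≠ 1) : 2 ≤ (idx x).primeFactors.card := by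
  by_contra hlt
  push Not at hlt
  have hT : ¬ (Nat.card T).Prime := fun hp => by
    haveI := Fact.mk hp
    haveI := isCyclic_of_prime_card (α := T) rfl
    exact hnc ⟨⟨fun a b => IsCyclic.commGroup.mul_comm a b⟩⟩
  obtain ⟨p, hp, hall⟩ : ∃ p, p.Prime ∧ ∀ q : ℕ, q.Prime → q ∣ idx x → q = p := by
    rcases Nat.eq_zero_or_pos (idx x).primeFactors.card with h0 | h0
    · refine ⟨2, Nat.prime_two, fun q hq hqd => ?_⟩
      have := Nat.mem_primeFactors.2 ⟨hq, hqd, idx_ne_zero x⟩
      rw [Finset.card_eq_zero.1 h0] at this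
      simp at this
    · obtain ⟨p, hp⟩ := Finset.card_eq_one.1 (show (idx x).primeFactors.card = 1 by omega)
      refine ⟨p, (Nat.mem_primeFactors.1 (hp ▸ Finset.mem_singleton_self p)).1, fun q hq hqd => ?_⟩
      exact Finset.mem_singleton.1 (hp ▸ Nat.mem_primeFactors.2 ⟨hq, hqd, idx_ne_zero x⟩)
  exact hT (CfsgLib.Burnside.prime_card_of_prime_power_class hp hx
    (Nat.eq_prime_pow_of_unique_prime_dvd (idx_ne_zero x) fun {q} hq hd => hall q hq hd))

include h2

theorem card_primeFactors : (Nat.card T).primeFactors.card = 3 := by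
  classical
  haveI := Fintype.ofFinite T
  have hn0 : Nat.card T ≠ 0 := Nat.card_pos.ne'
  set W := (Nat.card T).primeFactors with hW
  refine le_antisymm ?_ ?_
  · by_contra hlt
    push Not at hlt
    let c : ℕ → Finset T := fun p => Finset.univ.filter fun x => x ≠ 1 ∧ ¬ p ∣ idx x
    have hlow : (Finset.univ.erase (1 : T)).card * (W.card - 2) ≤ ∑ p ∈ W, (c p).card := by
      simp only [c, Finset.card_filter]
      rw [Finset.sum_comm, ← smul_eq_mul, ← Finset.sum_const]
      refine le_trans (Finset.sum_le_sum fun x hx => ?_)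
        (Finset.sum_le_sum_of_subset (Finset.subset_univ _))
      rw [← Finset.card_filter]
      have h1 := (Finset.card_le_card (show W.filter (fun p => p ∣ idx x) ⊆ (idx x).primeFactors from
        fun p hp => by
          rw [Finset.mem_filter] at hp
          exact Nat.mem_primeFactors.2 ⟨(Nat.mem_primeFactors.1 hp.1).1, hp.2, idx_ne_zero x⟩)).trans (h2 x)
      have h3 := W.card_filter_add_card_filter_not (fun p => p ∣ idx x)
      have h4 : W.filter (fun p => ¬ p ∣ idx x) = W.filter (fun p => x ≠ 1 ∧ ¬ p ∣ idx x) :=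
        Finset.filter_congr fun p _ => by simp [(Finset.mem_erase.1 hx).1]
      rw [← h4]
      omega
    have hup : ∀ p ∈ W, 2 * (c p).card ≤ Nat.card T - 2 := by
      intro p hp
      obtain ⟨hpp, hpd, -⟩ := Nat.mem_primeFactors.1 hp
      haveI := Fact.mk hpp
      let P : Sylow p T := default
      have h1 := two_mul_ncard_covered (P : Subgroup T) fun hle => not_good hnc hpp hpd ⟨P, hle⟩
      have h3 : ((c p : Finset T) : Set T) ⊆ covered (P : Subgroup T) \ {1} := by
        intro a ha
        rw [Finset.mem_coe, Finset.mem_filter] at ha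
        exact ⟨exists_conj_mem_cent P ha.2.2, ha.2.1⟩
      have h4 := Set.ncard_le_ncard h3
      rw [Set.ncard_coe_finset] at h4
      omega
    have hup' := Finset.sum_le_card_nsmul W _ _ hup
    rw [← Finset.mul_sum, smul_eq_mul] at hup'
    rw [Finset.card_erase_of_mem (Finset.mem_univ _), Finset.card_univ, ← Nat.card_eq_fintype_card] at hlow
    have h5 : W.card * (Nat.card T - 1) ≤ W.card * (Nat.card T - 2) :=
      calc W.card * (Nat.card T - 1) ≤ 2 * (W.card - 2) * (Nat.card T - 1) :=
            Nat.mul_le_mul_right _ (by omega)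
        _ = 2 * ((Nat.card T - 1) * (W.card - 2)) := by ring
        _ ≤ 2 * (∑ p ∈ W, (c p).card) := Nat.mul_le_mul_left _ hlow
        _ ≤ _ := hup'
    have h6 := Nat.le_of_mul_le_mul_left h5 (by omega)
    have : 2 ≤ Nat.card T := by
      rw [Nat.card_eq_fintype_card]; exact Fintype.one_lt_card
    omega
  · by_contra hlt
    push Not at hlt
    have htwo : 2 ∈ W := Nat.mem_primeFactors.2 ⟨Nat.prime_two, two_dvd_card hnc, hn0⟩
    obtain ⟨q, hq, hall⟩ : ∃ q, q.Prime ∧ ∀ r : ℕ, r.Prime → r ∣ Nat.card T → r = 2 ∨ r = q := by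
      rcases Finset.eq_empty_or_nonempty (W.erase 2) with he | ⟨q, hq⟩
      · refine ⟨3, Nat.prime_three, fun r hr hrd => Or.inl ?_⟩
        by_contra hne
        have := Finset.mem_erase.2 ⟨hne, Nat.mem_primeFactors.2 ⟨hr, hrd, hn0⟩⟩
        rw [he] at this
        simp at this
      · refine ⟨q, (Nat.mem_primeFactors.1 (Finset.mem_erase.1 hq).2).1, fun r hr hrd => ?_⟩
        by_contra hne
        push Not at hne
        have : ({2, q, r} : Finset ℕ) ⊆ W := by
          intro t ht
          simp only [Finset.mem_insert, Finset.mem_singleton] at ht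
          rcases ht with rfl | rfl | rfl
          · exact htwo
          · exact (Finset.mem_erase.1 hq).2
          · exact Nat.mem_primeFactors.2 ⟨hr, hrd, hn0⟩
        have h7 := Finset.card_le_card this
        rw [Finset.card_eq_three.2 ⟨2, q, r, (Finset.mem_erase.1 hq).1.symm, hne.1.symm, hne.2.symm,
          rfl⟩] at h7
        omega
    obtain ⟨i, m, hm, he⟩ := Nat.exists_eq_pow_mul_and_not_dvd hn0 2 (by norm_num)
    have hmq := Nat.eq_prime_pow_of_unique_prime_dvd (n := m) (p := q)
      (fun e => hm (e ▸ dvd_zero 2)) fun {r} hr hrd =>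
        ((hall r hr (he ▸ dvd_mul_of_dvd_right hrd _)).resolve_left fun e => hm (e ▸ hrd))
    rw [hmq] at he
    exact hnc ⟨⟨fun a b => IsSimpleGroup.comm_iff_isSolvable.2
      (CfsgLib.Burnside.isSolvable_of_card_eq Nat.prime_two hq i _ he) a b⟩⟩

theorem exists_type {x : T} (hx : x ≠ 1) :
    ∃ p, (p.Prime ∧ p ∣ Nat.card T ∧ ¬ p ∣ idx x) ∧
      ∀ q, q.Prime → q ∣ Nat.card T → ¬ q ∣ idx x → q = p := by
  classical
  have hsub : (idx x).primeFactors ⊆ (Nat.card T).primeFactors :=
    Nat.primeFactors_mono (idx_dvd_card x) Nat.card_pos.ne'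
  have hc : ((Nat.card T).primeFactors \ (idx x).primeFactors).card = 1 := by
    rw [Finset.card_sdiff_of_subset hsub, card_primeFactors hnc h2]
    have := two_le_card_primeFactors_idx hnc hx
    have := h2 x
    omega
  obtain ⟨p, hp⟩ := Finset.card_eq_one.1 hc
  have key : ∀ q : ℕ, q ∈ ({p} : Finset ℕ) ↔ q.Prime ∧ q ∣ Nat.card T ∧ ¬ q ∣ idx x := by
    intro q
    rw [← hp]
    simp only [Finset.mem_sdiff, Nat.mem_primeFactors, ne_eq, idx_ne_zero, not_false_eq_true,
      Nat.card_pos.ne', and_true]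
    tauto
  exact ⟨p, (key p).1 (Finset.mem_singleton_self p),
    fun q h1 h3 h4 => Finset.mem_singleton.1 ((key q).2 ⟨h1, h3, h4⟩)⟩

theorem type_eq {x : T} (hx : x ≠ 1) {p q : ℕ} (hp : p.Prime) (hq : q.Prime)
    (hpd : p ∣ Nat.card T) (hqd : q ∣ Nat.card T) (h1 : ¬ p ∣ idx x) (h3 : ¬ q ∣ idx x) : p = q := by
  obtain ⟨r, -, hr⟩ := exists_type hnc h2 hx
  rw [hr p hp hpd h1, hr q hq hqd h3]

theorem type_of_commute {x y : T} (hxy : Commute x y) (hco : (orderOf x).Coprime (orderOf y))
    (hy : y ≠ 1) (hx : x ≠ 1) {p : ℕ} (hp : p.Prime) (h : ¬ p ∣ idx x) : ¬ p ∣ idx y := by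
  obtain ⟨d1, d2⟩ := idx_dvd_mul hxy hco
  have h0 := idx_ne_zero (x * y)
  have hcx := two_le_card_primeFactors_idx hnc hx
  have e1 := Finset.eq_of_subset_of_card_le (Nat.primeFactors_mono d1 h0) ((h2 _).trans hcx)
  intro hd
  have : p ∈ (idx (x * y)).primeFactors := Nat.mem_primeFactors.2 ⟨hp, hd.trans d2, h0⟩
  rw [← e1] at this
  exact h (Nat.mem_primeFactors.1 this).2.1

omit hnc h2 [IsSimpleGroup T] in
theorem not_dvd_idx_of_mem {p : ℕ} [Fact p.Prime] (P : Sylow p T)
    (hab : IsMulCommutative (P : Subgroup T)) {x : T} (hx : x ∈ (P : Subgroup T)) : ¬ p ∣ idx x :=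
  not_dvd_idx_of_sylow_le P fun y hy =>
    mem_cent.2 (congrArg Subtype.val (hab.is_comm.comm (⟨y, hy⟩ : (P : Subgroup T)) ⟨x, hx⟩))

omit hnc h2 [IsSimpleGroup T] in
/-- If one Sylow `p`-subgroup is abelian then so is each of them. -/
theorem sylow_comm_all {p : ℕ} [Fact p.Prime] (P : Sylow p T)
    (hab : IsMulCommutative (P : Subgroup T)) (Q : Sylow p T) : IsMulCommutative (Q : Subgroup T) :=
  ⟨⟨fun a b => (P.equiv Q).symm.injective (by
    rw [map_mul, map_mul]; exact hab.is_comm.comm _ _)⟩⟩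

/-- The centraliser of an element of prime-power order is a group of that prime. -/
theorem isPGroup_cent {p : ℕ} [Fact p.Prime] {x : T} (hx : x ≠ 1) (hxp : ∃ k, orderOf x = p ^ k)
    (hpd : p ∣ Nat.card T) (hty : ¬ p ∣ idx x)
    (hab : ∀ q : ℕ, q.Prime → q ∣ Nat.card T → q ≠ p →
      ∀ Q : Sylow q T, IsMulCommutative (Q : Subgroup T)) :
    IsPGroup p (centralizer ({x} : Set T)) := by
  refine IsPGroup.of_card (Nat.eq_prime_pow_of_unique_prime_dvd Nat.card_pos.ne' fun {q} hq hqd => ?_)
  by_contra hqp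
  haveI := Fact.mk hq
  obtain ⟨⟨w, hw⟩, hwo⟩ := exists_prime_orderOf_dvd_card' (G := centralizer ({x} : Set T)) q hqd
  rw [Subgroup.orderOf_mk] at hwo
  have hw1 : w ≠ 1 := fun e => by rw [e, orderOf_one] at hwo; exact hq.ne_one hwo.symm
  have hqT : q ∣ Nat.card T := hwo ▸ orderOf_dvd_natCard w
  have hwp : IsPGroup q (zpowers w) := IsPGroup.of_card (n := 1) (by rw [Nat.card_zpowers, hwo, pow_one])
  obtain ⟨Q, hQ⟩ := hwp.exists_le_sylow
  have hwty : ¬ q ∣ idx w := not_dvd_idx_of_mem Q (hab q hq hqT hqp Q) (hQ (mem_zpowers w))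
  obtain ⟨k, hk⟩ := hxp
  have hco : (orderOf x).Coprime (orderOf w) := by
    rw [hk, hwo]
    exact ((Nat.coprime_primes Fact.out hq).2 (Ne.symm hqp)).pow_left k
  exact hqp (type_eq hnc h2 hw1 hq Fact.out hqT hpd hwty
    (type_of_commute hnc h2 (Commute.symm (mem_cent.1 hw)) hco hw1 hx Fact.out hty))

end CfsgLib.ClassPrimes
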